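import Cfsg.Agent.H26.Bender.CaseB.Basic

/-!
CASE B: the hypotheses of the section from an extreme member all of whose competitors have rank-one
lines.
-/

set_option autoImplicit false
set_option linter.style.haveILetI false

namespace Cfsg.Agent.H26.Bender.CaseB

open Subgroup MulAction
open scoped commutatorElement
open Cfsg.Agent.H39
open Cfsg.Agent.H73.Bender
open Cfsg.Agent.H26.Bender

universe u v

variable {G : Type u} [Group G] {Ω : Type v} [MulAction G Ω] {S : Subgroup G} {C : Set Ω}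
variable [Finite G] {p : ℕ} [Fact p.Prime]

theorem hyp_of_muMax (hp : p ≠ 2) (hS : SE S C) {U : Subgroup G} (hU : MuMax p S C U) {t₀ : G}
    (ht₀ : t₀ ∈ S ⊓ normalizer (U : Set G)) (ht₀2 : orderOf t₀ = 2)
    (hone : ∀ V, MuMax p S C V → ¬ RankTwo (S ⊓ normalizer (V : Set G))) :
    Hyp p S C (Member.commCard U t₀) := by
  have hodd : Odd p := (Fact.out : p.Prime).odd_of_ne_two hp
  have hcomm : ∀ {X : Subgroup G} {t : G}, (∀ k ∈ X, Commute t k) → orderOf t = 2 →
      Member.commCard X t = 1 := by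
    intro X t h ht2
    rw [Member.commCard, Subgroup.card_eq_one, eq_bot_iff]
    exact comm_le ht2 fun x hx => mem_bot.mpr
      (commutatorElement_eq_one_iff_mul_comm.mpr (h x hx).eq.symm)
  have hlt : 1 < Member.commCard U t₀ := by
    obtain ⟨k, hk, hne⟩ := hU.1.exists_not_commute hS ht₀ ht₀2
    rw [Member.commCard, Subgroup.one_lt_card_iff_ne_bot]
    intro h
    have h' := commutator_mem_commutator hk (mem_zpowers t₀)
    rw [h, mem_bot, commutatorElement_eq_one_iff_mul_comm] at h'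
    exact hne h'.symm
  refine ⟨hodd, hS, hlt, fun V hV t ht ht2 => ?_, fun V hV t ht ht2 hle h2 => ?_⟩
  · by_cases hnc : ∃ k ∈ V, ¬ Commute t k
    · obtain ⟨c, hc, htc⟩ := mem_points hS inf_le_left ht ht2
      obtain ⟨V', -, hV', htV', -, hmono⟩ := H73.Bender.climb hS hp hV.le hV.pgroup ht.1 ht2 ht.2
        hc.1 htc (fun r hr => hV.fix r hr c hc) hV.moves hnc
      exact (Subgroup.card_le_of_le hmono).trans (hU.2 V' hV' t ⟨ht.1, htV'⟩ ht2 t₀ ht₀ ht₀2)
    · push Not at hnc
      rw [hcomm hnc ht2]; exact hlt.le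
  · have hline : SE (nor S V) (lineOf S C V) := hV.line hS
    obtain ⟨v, hv, hv2, htv, hc⟩ := hline.exists_commute_inv h2 ht ht2
    have hvt : zpowers v ≤ normalizer (zpowers t : Set G) := by
      refine zpowers_le.mpr (Subgroup.mem_normalizer_iff.mpr fun x => ?_)
      have key : ∀ y ∈ zpowers t, v * y * v⁻¹ = y := by
        intro y hy
        obtain ⟨n, rfl⟩ := mem_zpowers_iff.mp hy
        rw [(hc.symm.zpow_right n).eq, mul_inv_cancel_right]
      refine ⟨fun hx => by rwa [key x hx], fun hx => ?_⟩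
      have e : v * x * v⁻¹ = x := mul_left_cancel (mul_right_cancel (key _ hx))
      rwa [e] at hx
    have h2grp : ∀ a : G, orderOf a = 2 → IsPGroup 2 (zpowers a) := fun a ha =>
      IsPGroup.of_card (n := 1) (by rw [Nat.card_zpowers, ha, pow_one])
    have hA : IsPGroup 2 (zpowers t ⊔ zpowers v : Subgroup G) := by
      rw [sup_comm]; exact (h2grp v hv2).to_sup_of_normal_right' (h2grp t ht2) hvt
    have hAle : zpowers t ⊔ zpowers v ≤ nor S V := sup_le (zpowers_le.mpr ht) (zpowers_le.mpr hv)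
    obtain ⟨x, hx, y, hy, hxy⟩ := hV.moves
    obtain ⟨U', Q', hVU', -, hU'Q', hQ'p, hQ'N, hAN, -, hline', hsyl⟩ :=
      H26.Bender.climb (A := zpowers t ⊔ zpowers v) hS hodd hA hV.pgroup le_rfl hV.le_nor hAle
        (hAle.trans inf_le_right) hy hx hxy (fun r hr => hV.fix r hr y hy)
    have htU' : t ∈ nor S U' := hAN (mem_sup_left (mem_zpowers t))
    obtain ⟨k, hk, hne⟩ : ∃ k ∈ V, ¬ Commute t k := by
      by_contra! h
      rw [hcomm h ht2] at hle
      exact absurd hle (by omega)
    have hmem : Member p S C U' := ⟨(hU'Q'.trans hQ'N).trans inf_le_left,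
      ⟨x, hline' hx, y, hline' hy, hxy⟩, hsyl, t, htU', ht2, k, hVU' hk, hne⟩
    refine hone U' ⟨hmem, fun W hW s hs hs2 s' hs' hs'2 => ?_⟩
      ⟨t, htU', v, hAN (mem_sup_right (mem_zpowers v)), ht2, hv2, htv, hc⟩
    rw [hmem.commCard_eq hS hs' hs'2 htU' ht2]
    exact (hU.2 W hW s hs hs2 t₀ ht₀ ht₀2).trans (hle.trans
      (Subgroup.card_le_of_le (Subgroup.commutator_mono hVU' le_rfl)))

end Cfsg.Agent.H26.Bender.CaseB
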