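import Cfsg.Agent.H26.Bender.CaseB.Rotate
import Cfsg.Agent.H26.Bender.CaseB.Setup
import Cfsg.Agent.H73.Bender.Targets

/-!
CASE B of notes/bender2.md, section 5, is impossible: some extreme member has a line of rank two.
-/

set_option autoImplicit false
set_option linter.style.haveILetI false

namespace Cfsg.Agent.H26.Bender.CaseB

open Subgroup MulAction
open scoped commutatorElement
open Cfsg.Agent.H39
open Cfsg.Agent.H73.Bender
open Cfsg.Agent.H26.Bender
open Cfsg.Agent.H29.Bender (IsSyl exists_isSyl_ge)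

universe u v

variable {G : Type u} [Group G] {Ω : Type v} [MulAction G Ω] {S : Subgroup G} {C : Set Ω}
variable [Finite G] [Finite Ω] {p : ℕ} [Fact p.Prime] {μ : ℕ}

/-- The rotated subgroup gives a base of rank two reaching the bound. -/
theorem false_of_hyp (hp : p ≠ 2) (hbelow : MainBelow.{u, v} (Nat.card S) (Nat.card C))
    (h2 : RankTwo S) (hF : Faithful S C) (H : Hyp p S C μ) {U : Subgroup G}
    (hU : Frame p S C μ U) : False := by
  obtain ⟨x, y, c, w, v, P, Y, hx, -, hc, hcx, hw, hw2, hwc, -, hv, hvc, hPp, hPD₁, -, hwP, hμ,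
    hY0, hYodd, hYS, hYD₁, hwY, hvwY⟩ := exists_rotation hp hU H
  set T := nor S Y with hTdef
  set E := lineOf S C Y with hEdef
  have hwT : w ∈ T := ⟨hw, hwY⟩
  have hsT : v * w * v⁻¹ ∈ T := ⟨conj_mem_of_mem hv hw, hvwY⟩
  have hs2 : orderOf (v * w * v⁻¹) = 2 := by rw [orderOf_conj, hw2]
  have hsx : (v * w * v⁻¹) • x = x := by rw [← hvc]; exact conj_smul_of_smul hwc
  have hcE : c ∈ E := ⟨hc, w, hwT, hw2, hwc⟩
  have hxE : x ∈ E := ⟨hx, _, hsT, hs2, hsx⟩
  have hT : SE T E := H.se.line inf_le_left hcE hxE hcx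
  -- all involutions at `c` lie in `T`, so it has rank two
  obtain ⟨w', hw', hw'2, hww', hcomm⟩ := H.se.exists_commute_inv h2 hw hw2
  have hw'c : w' • c = c := H.se.fix_of_commute hw' hw hw2 hcomm.symm hc hwc
  obtain ⟨d, hd, rfl⟩ := H.se.fix_conj hc hx hcx hw hw' hw2 hw'2 hwc hw'c
  have hdT : d ∈ T := ⟨(mem_pair.mp hd).1, hYD₁ hd⟩
  have hw'T : d * w * d⁻¹ ∈ T := conj_mem_of_mem hdT hwT
  have hT2 : RankTwo T := ⟨w, hwT, _, hw'T, hw2, hw'2, hww', hcomm⟩
  -- the line is a proper part of `C`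
  have hEne : E ≠ C := by
    intro hEC
    have hle : Y ≤ kernel T E :=
      hT.le_kernel_of_odd hT2 (le_inf hYS Subgroup.le_normalizer) hYodd inf_le_right
    refine hY0 (le_bot_iff.mp fun g hg => ?_)
    have h := mem_kernel.mp (hle hg)
    rw [hEC] at h
    have hk : g ∈ kernel S C := mem_kernel.mpr ⟨h.1.1, h.2⟩
    rwa [show kernel S C = ⊥ from hF] at hk
  have hlt : Nat.card E < Nat.card C := by
    rw [Nat.card_coe_set_eq, Nat.card_coe_set_eq]
    exact Set.ncard_lt_ncard (lt_of_le_of_ne (points_subset T C) hEne) (Set.toFinite _)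
  have hgood : Good T E :=
    (hbelow G Ω T E (Or.inr ⟨Subgroup.card_le_of_le inf_le_left, hlt⟩) hT hT2).1
  -- the commutator lies in the kernel of the line
  set K := kernel T E with hKdef
  have hPT : P ≤ T := fun r hr => ⟨(mem_pair.mp (hPD₁ hr)).1, hYD₁ (hPD₁ hr)⟩
  have hBK : ⁅P, zpowers w⁆ ≤ K := comm_le hw2 fun r hr => by
    have hk : ⁅r, w⁆ ∈ P := comm_le_left hwP (commutator_mem_commutator hr (mem_zpowers w))
    have hinv : w * ⁅r, w⁆ * w⁻¹ = ⁅r, w⁆⁻¹ := by
      simp only [commutatorElement_def, inv_eq_of_orderOf_eq_two hw2, mul_inv_rev, inv_inv,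
        mul_assoc, mul_self_of_orderOf_eq_two hw2, mul_one]
    exact mem_kernel.mpr ⟨hPT hk, hgood w hwT hw2 _ (hPT hk) hinv c hcE x hxE hcx hwc
      (mem_pair.mp (hPD₁ hk)).2.1 (mem_pair.mp (hPD₁ hk)).2.2⟩
  have hKodd : Odd (Nat.card K) := hT.odd_kernel
  have hTK : T ≤ normalizer (K : Set G) := le_normalizer_kernel hT
  -- a Sylow subgroup of the kernel invariant under a four-group
  set w' := d * w * d⁻¹ with hw'def
  set F : Subgroup G := zpowers w ⊔ zpowers w' with hFdef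
  have hFT : F ≤ T := sup_le (zpowers_le.mpr hwT) (zpowers_le.mpr hw'T)
  have h2grp : ∀ a : G, orderOf a = 2 → IsPGroup 2 (zpowers a) := fun a ha =>
    IsPGroup.of_card (n := 1) (by rw [Nat.card_zpowers, ha, pow_one])
  have hF2 : IsPGroup 2 F := by
    rw [hFdef, sup_comm]
    refine (h2grp _ hw'2).to_sup_of_normal_right' (h2grp _ hw2) (zpowers_le.mpr ?_)
    refine Coprime.mem_normalizer_of_map_conj ?_
    rw [MonoidHom.map_zpowers]
    congr 1
    show w' * w * w'⁻¹ = w
    rw [hcomm.symm.eq, mul_inv_cancel_right]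
  haveI : Group.IsSolvable F := by
    haveI := hF2.isNilpotent; infer_instance
  have hFcop : (Nat.card F).Coprime (Nat.card K) := by
    obtain ⟨n, hn⟩ := IsPGroup.iff_card.mp hF2
    rw [hn]; exact hKodd.coprime_two_left.pow_left n
  obtain ⟨R, hFR⟩ := Coprime.exists_invariant_sylow (hFT.trans hTK) hFcop (Or.inl inferInstance) p
  set U₁ : Subgroup G := (R : Subgroup K).map K.subtype with hU₁
  have hU₁syl : IsSyl p K U₁ := H29.Bender.sylow_map R
  have hwK : zpowers w ≤ normalizer (K : Set G) := zpowers_le.mpr (hTK hwT)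
  obtain ⟨R₂, hBR₂, hwR₂⟩ := Coprime.exists_invariant_sylow_ge (A := zpowers w) (K := K) hwK
    (coprime_zpowers hw2 hKodd) (Or.inl (Coprime.isSolvable_zpowers w)) p hBK
    (hPp.to_le (comm_le_left hwP)) (zpowers_le.mpr (mem_normalizer_comm P w))
  set U₂ : Subgroup G := (R₂ : Subgroup K).map K.subtype with hU₂
  obtain ⟨e, he, he'⟩ := (H29.Bender.sylow_map R₂).exists_conj hU₁syl
  obtain ⟨f, hf, hf'⟩ := Coprime.exists_centralizer_conj (A := zpowers w) (K := K) hwK
    (coprime_zpowers hw2 hKodd) (Or.inl (Coprime.isSolvable_zpowers w)) hwR₂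
    ((le_sup_left : zpowers w ≤ F).trans hFR) he he'
  have hcard : μ ≤ Member.commCard U₁ w := by
    have hfw : f * w * f⁻¹ = w := by
      have h := mem_centralizer_iff.mp hf.2 w (mem_zpowers w)
      rw [← h, mul_inv_cancel_right]
    rw [Member.commCard, ← hf',
      show zpowers w = (zpowers w).map (MulAut.conj f).toMonoidHom by
        rw [MonoidHom.map_zpowers]; congr 1; exact hfw.symm,
      ← Subgroup.map_commutator, card_map_of_injective (MulAut.conj f).injective]
    refine hμ.trans (Subgroup.card_le_of_le ?_)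
    rw [← comm_idem (H29.Bender.odd_card_of_isPGroup hPp H.odd) hw2 hwP]
    exact Subgroup.commutator_mono hBR₂ le_rfl
  have hsub : E ⊆ lineOf S C U₁ :=
    points_le_normalizer_syl H.se inf_le_left hcE hxE hcx hU₁syl
  have hwU₁ : w ∈ nor S U₁ := ⟨hw, hFR (mem_sup_left (mem_zpowers w))⟩
  have hw'U₁ : w' ∈ nor S U₁ := ⟨hw', hFR (mem_sup_right (mem_zpowers w'))⟩
  obtain ⟨-, t, ht, ht2, htx⟩ := hsub hxE
  have hbase : Base p S C U₁ := Base.of_fix H.se (fun r hr => (mem_kernel.mp (hU₁syl.le hr)).1.1)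
    hU₁syl.pgroup (s := w) (t := t) hwU₁ ht hw2 ht2 hc hx hwc htx hcx
    (fun r hr => (mem_kernel.mp (hU₁syl.le hr)).2 c hcE)
  exact H.rankOne U₁ hbase w hwU₁ hw2 hcard ⟨w, hwU₁, w', hw'U₁, hw2, hw'2, hww', hcomm⟩

/-- CASE B is impossible: some extreme member has a line of rank two. -/
theorem exists_rankTwo_muMax (hp : p ≠ 2) (hbelow : MainBelow.{u, v} (Nat.card S) (Nat.card C))
    (hS : SE S C) (h2 : RankTwo S) (hF : Faithful S C) {U : Subgroup G} (hU : Member p S C U) :
    ∃ V, MuMax p S C V ∧ RankTwo (S ⊓ normalizer (V : Set G)) := by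
  by_contra! hone
  obtain ⟨V, hV⟩ := hU.exists_muMax hS
  obtain ⟨t, ht, ht2, -⟩ := hV.1.noncentral
  have H := hyp_of_muMax hp hS hV ht ht2 hone
  have hbase : Base p S C V := ⟨hV.1.le, hV.1.isPGroup, hV.1.moves,
    fun r hr z hz => hV.1.fix hr hz⟩
  exact false_of_hyp hp hbelow h2 hF H (Frame.of_le H hbase ht ht2 le_rfl)

end Cfsg.Agent.H26.Bender.CaseB
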