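import Cfsg.Agent.H26.Bender.Climb
import Cfsg.Agent.H73.Bender.Climb

/-!
CASE B of notes/bender2.md: vocabulary.  A `Base` is a `p`-group fixing the line of its normaliser, a
`Frame` one whose commutators with the involutions of this line have the extreme order `μ`.
-/

set_option autoImplicit false
set_option linter.style.haveILetI false

namespace Cfsg.Agent.H26.Bender.CaseB

open Subgroup MulAction
open scoped commutatorElement
open Cfsg.Agent.H39
open Cfsg.Agent.H73.Bender
open Cfsg.Agent.H26.Bender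
open Cfsg.Agent.H29.Bender (IsSyl exists_isSyl_ge)

variable {G : Type*} [Group G] {Ω : Type*} [MulAction G Ω] {S : Subgroup G} {C : Set Ω}

theorem eq_one_or_eq {w i : G} (hw : orderOf w = 2) (hi : i ∈ zpowers w) : i = 1 ∨ i = w := by
  obtain ⟨k, rfl⟩ := mem_zpowers_iff.mp hi
  have h2 : w ^ (2 : ℤ) = 1 := by rw [zpow_two, mul_self_of_orderOf_eq_two hw]
  rcases Int.even_or_odd k with ⟨m, rfl⟩ | ⟨m, rfl⟩
  · exact Or.inl (by rw [← two_mul, zpow_mul, h2, one_zpow])
  · exact Or.inr (by rw [zpow_add, zpow_mul, h2, one_zpow, one_mul, zpow_one])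

theorem centralizer_zpowers (w : G) :
    centralizer (zpowers w : Set G) = centralizer ({w} : Set G) := by
  ext x
  rw [mem_centralizer_iff, mem_centralizer_singleton_iff]
  refine ⟨fun h => (h w (mem_zpowers w)).symm, fun h y hy => ?_⟩
  obtain ⟨k, rfl⟩ := mem_zpowers_iff.mp hy
  exact (Commute.zpow_right h k).eq.symm

/-- The commutator subgroup with an involution is generated by the commutators with it. -/
theorem comm_le {X L : Subgroup G} {w : G} (hw : orderOf w = 2) (h : ∀ x ∈ X, ⁅x, w⁆ ∈ L) :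
    ⁅X, zpowers w⁆ ≤ L :=
  commutator_le.mpr fun x hx i hi => by
    rcases eq_one_or_eq hw hi with rfl | rfl
    · rw [commutatorElement_one_right]; exact one_mem _
    · exact h x hx

theorem comm_le_left {X : Subgroup G} {w : G} (hwX : w ∈ normalizer (X : Set G)) :
    ⁅X, zpowers w⁆ ≤ X :=
  Coprime.commutator_le_left_of_normalizer (zpowers_le.mpr hwX)

theorem mem_normalizer_comm (X : Subgroup G) (w : G) :
    w ∈ normalizer ((⁅X, zpowers w⁆ : Subgroup G) : Set G) :=
  normalizer_commutator_ge_right X (zpowers w) (mem_zpowers w)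

theorem map_comm {U : Subgroup G} {g : G} (hg : g ∈ normalizer (U : Set G)) (t : G) :
    ⁅U, zpowers t⁆.map (MulAut.conj g).toMonoidHom = ⁅U, zpowers (g * t * g⁻¹)⁆ := by
  rw [Subgroup.map_commutator, MonoidHom.map_zpowers, Member.mem_normalizer_map_eq hg]
  rfl

/-- A `p`-group of `S` fixing the line of its normaliser. -/
structure Base (p : ℕ) (S : Subgroup G) (C : Set Ω) (V : Subgroup G) : Prop where
  le : V ≤ S
  pgroup : IsPGroup p V
  moves : ∃ x ∈ lineOf S C V, ∃ y ∈ lineOf S C V, x ≠ y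
  fix : ∀ r ∈ V, ∀ z ∈ lineOf S C V, r • z = z

/-- The hypotheses of CASE B: `μ` bounds the commutators of the bases, and the lines of the bases
reaching the bound have rank one. -/
structure Hyp (p : ℕ) (S : Subgroup G) (C : Set Ω) (μ : ℕ) : Prop where
  odd : Odd p
  se : SE S C
  one_lt : 1 < μ
  bd : ∀ V, Base p S C V → ∀ t ∈ nor S V, orderOf t = 2 → Member.commCard V t ≤ μ
  rankOne : ∀ V, Base p S C V → ∀ t ∈ nor S V, orderOf t = 2 → μ ≤ Member.commCard V t →
    ¬ RankTwo (nor S V)

/-- A base whose commutators reach the bound. -/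
structure Frame (p : ℕ) (S : Subgroup G) (C : Set Ω) (μ : ℕ) (U : Subgroup G) : Prop
    extends Base p S C U where
  card_eq : ∀ t ∈ nor S U, orderOf t = 2 → Member.commCard U t = μ

variable [Finite G] {p : ℕ} {μ : ℕ} {U : Subgroup G}

theorem coprime_zpowers {w : G} (hw : orderOf w = 2) {K : Subgroup G} (hK : Odd (Nat.card K)) :
    (Nat.card (zpowers w)).Coprime (Nat.card K) := by
  rw [Nat.card_zpowers, hw]; exact hK.coprime_two_left

/-- An odd group is the product of its commutators with an involution and its fixed elements. -/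
theorem comm_sup_cent {X : Subgroup G} (hX : Odd (Nat.card X)) {w : G} (hw : orderOf w = 2)
    (hwX : w ∈ normalizer (X : Set G)) :
    ⁅X, zpowers w⁆ ⊔ (X ⊓ centralizer ({w} : Set G)) = X := by
  rw [← centralizer_zpowers]
  exact Coprime.commutator_sup_centralizer (zpowers_le.mpr hwX) (coprime_zpowers hw hX)
    (Or.inl (Coprime.isSolvable_zpowers w))

theorem comm_idem {X : Subgroup G} (hX : Odd (Nat.card X)) {w : G} (hw : orderOf w = 2)
    (hwX : w ∈ normalizer (X : Set G)) :
    ⁅⁅X, zpowers w⁆, zpowers w⁆ = ⁅X, zpowers w⁆ :=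
  Coprime.commutator_commutator_eq (zpowers_le.mpr hwX) (coprime_zpowers hw hX)
    (Or.inl (Coprime.isSolvable_zpowers w))

namespace Base

variable {V : Subgroup G}

/-- A base from two involutions at different points, fixing one of them. -/
theorem of_fix (hS : SE S C) (hV : V ≤ S) (hp : IsPGroup p V) {s t : G} (hs : s ∈ nor S V)
    (ht : t ∈ nor S V) (hs2 : orderOf s = 2) (ht2 : orderOf t = 2) {a b : Ω} (ha : a ∈ C)
    (hb : b ∈ C) (hsa : s • a = a) (htb : t • b = b) (hab : a ≠ b) (hfix : ∀ r ∈ V, r • a = a) :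
    Base p S C V where
  le := hV
  pgroup := hp
  moves := ⟨a, ⟨ha, s, hs, hs2, hsa⟩, b, ⟨hb, t, ht, ht2, htb⟩, hab⟩
  fix r hr := fix_all_of_normal (hS.line inf_le_left (p := a) (q := b) ⟨ha, s, hs, hs2, hsa⟩
    ⟨hb, t, ht, ht2, htb⟩ hab) inf_le_right (c := a) ⟨ha, s, hs, hs2, hsa⟩ hfix r hr

theorem line (hV : Base p S C V) (hS : SE S C) : SE (nor S V) (lineOf S C V) := by
  obtain ⟨x, hx, y, hy, hxy⟩ := hV.moves
  exact hS.line inf_le_left hx hy hxy

omit [Finite G] in
theorem le_nor (hV : Base p S C V) : V ≤ nor S V := le_inf hV.le Subgroup.le_normalizer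

omit [Finite G] in
theorem le_pair (hV : Base p S C V) {x y : Ω} (hx : x ∈ lineOf S C V) (hy : y ∈ lineOf S C V) :
    V ≤ pair (nor S V) x y := fun r hr =>
  mem_pair.mpr ⟨hV.le_nor hr, hV.fix r hr x hx, hV.fix r hr y hy⟩

theorem odd_card [Fact p.Prime] (hp : Odd p) (hV : Base p S C V) : Odd (Nat.card V) :=
  H29.Bender.odd_card_of_isPGroup hV.pgroup hp

theorem commCard_eq (hV : Base p S C V) (hS : SE S C) {s t : G} (hs : s ∈ nor S V)
    (ht : t ∈ nor S V) (hs2 : orderOf s = 2) (ht2 : orderOf t = 2) :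
    Member.commCard V s = Member.commCard V t := by
  obtain ⟨g, hg, rfl⟩ := (hV.line hS).exists_conj hs ht hs2 ht2
  unfold Member.commCard
  rw [← map_comm hg.2, card_map_of_injective (MulAut.conj g).injective]

end Base

/-- A base reaching the bound at one involution is a frame. -/
theorem Frame.of_le (H : Hyp p S C μ) {V : Subgroup G} (hV : Base p S C V) {t : G}
    (ht : t ∈ nor S V) (ht2 : orderOf t = 2) (h : μ ≤ Member.commCard V t) :
    Frame p S C μ V :=
  ⟨hV, fun _ hs hs2 => by
    rw [hV.commCard_eq H.se hs ht hs2 ht2]; exact le_antisymm (H.bd V hV t ht ht2) h⟩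

omit [Finite G] in
theorem Frame.rank (hU : Frame p S C μ U) (H : Hyp p S C μ) : ¬ RankTwo (nor S U) := by
  obtain ⟨x, ⟨-, t, ht, ht2, -⟩, -⟩ := hU.moves
  exact H.rankOne U hU.toBase t ht ht2 (hU.card_eq t ht ht2).ge

end Cfsg.Agent.H26.Bender.CaseB
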