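import Cfsg.Agent.H26.Bender.CaseB.Odd
import Cfsg.Agent.H72.SE.OddFix

/-!
BLOCK: in a strongly embedded action without a four-group an invariant subgroup acts by commuting
permutations; the stabiliser of a pair in one of its orbits fixes the midpoint of the pair.
-/

set_option autoImplicit false
set_option linter.style.haveILetI false

namespace Cfsg.Agent.H26.Bender.CaseB

open Subgroup MulAction
open scoped commutatorElement
open Cfsg.Agent.H39
open Cfsg.Agent.H73.Bender

universe u v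

variable {G : Type u} [Group G] {Ω : Type v} [MulAction G Ω] {T : Subgroup G} {E : Set Ω}

/-- An invariant subgroup of odd order which moves the line and acts on it by commuting
permutations. -/
structure IsBlock (T : Subgroup G) (E : Set Ω) (A : Subgroup G) : Prop where
  le : A ≤ T
  normal : T ≤ normalizer (A : Set G)
  odd : Odd (Nat.card A)
  moves : ∃ a ∈ A, ∃ z ∈ E, a • z ≠ z
  comm : ∀ a ∈ A, ∀ b ∈ A, ∀ z ∈ E, a • b • z = b • a • z

variable [Finite G]

theorem exists_block (hT : SE T E) (h : ¬ RankTwo T) : ∃ A, IsBlock T E A := by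
  classical
  have hex : ∃ n, ∀ v ∈ H72.SE.dser (oddIn T) n, ∀ z ∈ E, v • z = z := by
    obtain ⟨n, hn⟩ := H72.SE.exists_dser_eq_bot (oddIn T) odd_oddIn
    exact ⟨n, fun v hv z _ => by rw [hn, mem_bot] at hv; rw [hv, one_smul]⟩
  have h0 : Nat.find hex ≠ 0 := by
    intro h0
    obtain ⟨x, hx, y, hy, hxy⟩ := hT.exists_ne
    obtain ⟨l, hl, hlx⟩ := exists_oddIn_smul hT h hx hy
    exact hxy (((Nat.find_eq_zero hex).mp h0 l hl x hx).symm.trans hlx)
  obtain ⟨d, hd⟩ := Nat.exists_eq_succ_of_ne_zero h0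
  have htriv : ∀ v ∈ H72.SE.dser (oddIn T) (d + 1), ∀ z ∈ E, v • z = z := by
    have := Nat.find_spec hex; rwa [hd] at this
  refine ⟨H72.SE.dser (oddIn T) d, (H72.SE.dser_le _ d).trans oddIn_le, fun g hg =>
    mem_normalizer_iff_map_conj_eq.mpr (H72.SE.normalizer_le_dser _ (le_normalizer_oddIn hg) d),
    odd_oddIn.of_dvd_nat (card_dvd_of_le (H72.SE.dser_le _ d)), ?_, fun a ha b hb z hz => ?_⟩
  · have h' := Nat.find_min hex (show d < Nat.find hex by omega)
    push Not at h'
    exact h'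
  · have hbaz : b • a • z ∈ E :=
      hT.smul_mem (oddIn_le (H72.SE.dser_le _ d hb)) (hT.smul_mem (oddIn_le (H72.SE.dser_le _ d ha)) hz)
    have h := htriv ⁅a, b⁆ (commutator_mem_commutator ha hb) _ hbaz
    simp only [smul_smul, commutatorElement_def, mul_assoc, inv_mul_cancel_left, inv_mul_cancel,
      mul_one] at h
    simp only [smul_smul]
    exact h

namespace IsBlock

variable {A : Subgroup G}

/-- The involution at a point inverts the block through it. -/
theorem inv_act (hA : IsBlock T E A) (hT : SE T E) {c : Ω} (hc : c ∈ E) {w : G} (hw : w ∈ T)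
    (hw2 : orderOf w = 2) (hwc : w • c = c) {a : G} (ha : a ∈ A) : w • a • c = a⁻¹ • c := by
  have hww : ∀ z : Ω, w • w • z = z := fun z => by
    rw [← mul_smul, mul_self_of_orderOf_eq_two hw2, one_smul]
  have hac : a • c ∈ E := hT.smul_mem (hA.le ha) hc
  have hb : w * a * w⁻¹ ∈ A := (Subgroup.mem_normalizer_iff.mp (hA.normal hw) a).mp ha
  -- `e • c` is fixed by `w`
  have he : (w * a * w⁻¹) • a • c ∈ E := hT.smul_mem (hA.le hb) hac
  have hfix : w • (w * a * w⁻¹) • a • c = (w * a * w⁻¹) • a • c := by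
    conv_rhs => rw [hA.comm _ hb a ha c hc]
    simp only [mul_smul, inv_eq_of_orderOf_eq_two hw2, hwc, hww]
  have hec := hT.fix_unique hw hw2 he hc hfix hwc
  simp only [mul_smul, inv_eq_of_orderOf_eq_two hw2] at hec
  have h := congrArg (fun z => w • z) hec
  simp only [hww, hwc] at h
  exact eq_inv_smul_iff.mpr h

/-- The stabiliser of a pair inside an orbit fixes the point of a swapper, which lies in the
orbit. -/
theorem mid (hA : IsBlock T E A) (hT : SE T E) {x y c : Ω} (hx : x ∈ E) (hy : y ∈ E)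
    (hxy : x ≠ y) (hc : c ∈ E) {e : G} (he : e ∈ A) (hexy : e • x = y) {w : G} (hw : w ∈ T)
    (hw2 : orderOf w = 2) (hwx : w • x = y) (hwc : w • c = c) :
    (∀ d ∈ pair T x y, d • c = c) ∧ ∃ a ∈ A, a • c = x := by
  obtain ⟨k, hk⟩ : Odd (orderOf e) := hA.odd.of_dvd_nat (Subgroup.orderOf_dvd_natCard A he)
  set h := e ^ (k + 1) with hh
  have hhA : h ∈ A := pow_mem he _
  have hhh : h * h = e := by
    rw [hh, ← pow_add, show k + 1 + (k + 1) = orderOf e + 1 by omega, pow_succ, pow_orderOf_eq_one,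
      one_mul]
  set z := h • x with hz
  have hzE : z ∈ E := hT.smul_mem (hA.le hhA) hx
  have hhz : h • z = y := by rw [hz, ← mul_smul, hhh, hexy]
  have hdz : ∀ d ∈ pair T x y, d • z = z := by
    intro d hd
    obtain ⟨hdT, hdx, hdy⟩ := mem_pair.mp hd
    set h' := d * h * d⁻¹ with hh'
    have hh'A : h' ∈ A := (Subgroup.mem_normalizer_iff.mp (hA.normal hdT) h).mp hhA
    have h1 : h' • x = d • z := by
      rw [hh', mul_smul, mul_smul, inv_smul_eq_iff.mpr hdx.symm]
    have hh'x : h' • x ∈ E := hT.smul_mem (hA.le hh'A) hx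
    have h2 : h' • h' • x = y := by
      rw [h1, hh', mul_smul, mul_smul, inv_smul_smul, hhz, hdy]
    have hu2 : (h⁻¹ * h') • (h⁻¹ * h') • x = x := by
      simp only [mul_smul]
      rw [hA.comm h' hh'A h⁻¹ (inv_mem hhA) _ hh'x, h2, inv_smul_eq_iff, inv_smul_eq_iff]
      exact hhz.symm
    have hu := H72.SE.smul_eq_of_sq (hA.odd.of_dvd_nat
      (Subgroup.orderOf_dvd_natCard A (mul_mem (inv_mem hhA) hh'A))) hu2
    rw [mul_smul, inv_smul_eq_iff, h1] at hu
    exact hu
  have hxz : h⁻¹ • z = x := inv_smul_smul h x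
  obtain ⟨s, hs, hs2, hsz⟩ := hT.exists_inv_at hzE
  have hsx : s • x = y := by
    rw [← hxz, hA.inv_act hT hzE hs hs2 hsz (inv_mem hhA), inv_inv, hhz]
  obtain ⟨d, hd, hdw⟩ := hT.swap_conj hx hy hxy hs hw hs2 hw2 hsx hwx
  have hcz : c = z := hT.fix_unique hw hw2 hc hzE hwc
    (by rw [← hdw, mul_smul, mul_smul, inv_smul_eq_iff.mpr (hdz d hd).symm, hsz, hdz d hd])
  rw [hcz]
  exact ⟨hdz, h⁻¹, inv_mem hhA, hxz⟩

end IsBlock

end Cfsg.Agent.H26.Bender.CaseB
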