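import Cfsg.Agent.H73.Bender.Lines
import Cfsg.Agent.Cores.GlaubermanZStar

/-!
A group without a four-group: its involutions lie in one coset of its odd core, which is transitive
on the points of any strongly embedded action.
-/

set_option autoImplicit false
set_option linter.style.haveILetI false

namespace Cfsg.Agent.H26.Bender.CaseB

open Subgroup
open Cfsg.Agent.H39
open Cfsg.Agent.H73.Bender

universe u

variable {G : Type u} [Group G] [Finite G] {T : Subgroup G}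

/-- The odd core of `T`, inside the ambient group. -/
def oddIn (T : Subgroup G) : Subgroup G := (Cfsg.oddCore ↥T).map T.subtype

omit [Finite G] in
theorem oddIn_le : oddIn T ≤ T := map_subtype_le _

theorem odd_oddIn : Odd (Nat.card (oddIn T)) := by
  rw [oddIn, card_map_of_injective T.subtype_injective]
  exact Cores.odd_card_oddCore

omit [Finite G] in
theorem le_normalizer_oddIn : T ≤ normalizer (oddIn T : Set G) := by
  intro g hg
  rw [Subgroup.mem_normalizer_iff]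
  intro x
  constructor
  · rintro ⟨l, hl, rfl⟩
    exact ⟨⟨g, hg⟩ * l * ⟨g, hg⟩⁻¹, Subgroup.Normal.conj_mem inferInstance _ hl _, rfl⟩
  · rintro ⟨l, hl, hlx⟩
    refine ⟨⟨g, hg⟩⁻¹ * l * ⟨g, hg⟩, ?_, ?_⟩
    · simpa using Subgroup.Normal.conj_mem (inferInstance : (Cfsg.oddCore ↥T).Normal) _ hl
        (⟨g, hg⟩ : T)⁻¹
    · have e : (l : G) = g * x * g⁻¹ := hlx
      show g⁻¹ * (l : G) * g = x
      rw [e]; group

/-- Two involutions differ by an element of the odd core. -/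
theorem mul_inv_mem_oddIn (h : ¬ RankTwo T) {u v : G} (hu : u ∈ T) (hu2 : orderOf u = 2)
    (hv : v ∈ T) (hv2 : orderOf v = 2) : v * u⁻¹ ∈ oddIn T := by
  have huniq : ∀ a b : T, orderOf a = 2 → orderOf b = 2 → Commute a b → a = b := by
    intro a b ha hb hc
    by_contra hne
    exact h ⟨a, a.2, b, b.2, by rwa [Subgroup.orderOf_coe], by rwa [Subgroup.orderOf_coe],
      fun e => hne (Subtype.ext e), congrArg Subtype.val hc.eq⟩
  obtain ⟨u', rfl⟩ : ∃ u' : T, (u' : G) = u := ⟨⟨u, hu⟩, rfl⟩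
  obtain ⟨v', rfl⟩ : ∃ v' : T, (v' : G) = v := ⟨⟨v, hv⟩, rfl⟩
  rw [Subgroup.orderOf_coe] at hu2 hv2
  obtain ⟨P, hP⟩ := (IsPGroup.of_card (G := zpowers u') (n := 1)
    (by rw [Nat.card_zpowers, hu2, pow_one])).exists_le_sylow
  have huP : u' ∈ P := hP (mem_zpowers _)
  haveI : Nontrivial (P : Subgroup T) := ⟨⟨⟨u', huP⟩, 1, fun e => by
    have e' : u' = 1 := congrArg Subtype.val e
    rw [e', orderOf_one] at hu2
    exact absurd hu2 (by norm_num)⟩⟩
  haveI := P.2.center_nontrivial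
  obtain ⟨z, hz⟩ := exists_prime_orderOf_dvd_card' (G := center (P : Subgroup T)) 2 (by
    obtain ⟨n, hn, hcard⟩ := (IsPGroup.nontrivial_iff_card (P.2.to_subgroup (center _))).mp
      inferInstance
    rw [hcard]
    exact dvd_pow_self 2 hn.ne')
  have hPuniq : ∀ a : T, a ∈ P → orderOf a = 2 → a = ((z : (P : Subgroup T)) : T) :=
    fun a ha ha2 =>
    huniq _ _ ha2 (by rw [Subgroup.orderOf_coe, Subgroup.orderOf_coe, hz])
      (congrArg Subtype.val (mem_center_iff.mp z.2 ⟨a, ha⟩))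
  have hiso : ∀ g : T, g * u' * g⁻¹ ∈ P → g * u' * g⁻¹ = u' := fun g hg =>
    (hPuniq _ hg (by rw [orderOf_conj, hu2])).trans (hPuniq _ huP hu2).symm
  have hZ := Cores.glaubermanZStar P hu2 huP hiso
  obtain ⟨Q, hQ⟩ := (IsPGroup.of_card (G := zpowers v') (n := 1)
    (by rw [Nat.card_zpowers, hv2, pow_one])).exists_le_sylow
  obtain ⟨g, hg⟩ := MulAction.exists_smul_eq T Q P
  have hgv : g * v' * g⁻¹ = u' := by
    refine (hPuniq _ ?_ (by rw [orderOf_conj, hv2])).trans (hPuniq _ huP hu2).symm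
    rw [← hg]
    exact ⟨_, hQ (mem_zpowers _), rfl⟩
  refine ⟨v' * u'⁻¹, ?_, rfl⟩
  have e : v' * u'⁻¹ = g⁻¹ * u' * g * u'⁻¹ := by rw [← hgv]; group
  rw [e]
  simpa [mul_assoc] using inv_mem (hZ g⁻¹)

/-- The odd core is transitive on the points. -/
theorem exists_oddIn_smul {Ω : Type*} [MulAction G Ω] {E : Set Ω} (hT : SE T E)
    (h : ¬ RankTwo T) {x y : Ω} (hx : x ∈ E) (hy : y ∈ E) : ∃ l ∈ oddIn T, l • x = y := by
  by_cases hxy : x = y
  · exact ⟨1, one_mem _, by rw [one_smul, hxy]⟩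
  obtain ⟨s, hs, hs2, hsx⟩ := hT.exists_inv_at hx
  obtain ⟨w, hw, hw2, hwx⟩ := hT.exists_swap hx hy hxy
  refine ⟨w * s⁻¹, mul_inv_mem_oddIn h hs hs2 hw hw2, ?_⟩
  rw [mul_smul, inv_smul_eq_iff.mpr hsx.symm, hwx]

end Cfsg.Agent.H26.Bender.CaseB
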