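import Cfsg.Agent.H26.Bender.CaseB.Count
import Cfsg.Agent.H26.Bender.CaseB.Odd
import Cfsg.Agent.H72.SE.OddFix

/-!
CASE B (i): in the line of a frame every swapper centralises its invariant Sylow subgroup of the
pair modulo the frame.
-/

set_option autoImplicit false
set_option linter.style.haveILetI false

namespace Cfsg.Agent.H26.Bender.CaseB

open Subgroup MulAction
open scoped commutatorElement
open Cfsg.Agent.H39
open Cfsg.Agent.H73.Bender
open Cfsg.Agent.H26.Bender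
open Cfsg.Agent.H29.Bender (IsSyl exists_isSyl_ge)

universe u v

variable {G : Type u} [Group G] {Ω : Type v} [MulAction G Ω] {S : Subgroup G} {C : Set Ω}
variable [Finite G] [Finite Ω] {p : ℕ} [Fact p.Prime] {μ : ℕ} {U : Subgroup G}

/-- A `p`-group of the line does not fix exactly two points. -/
theorem exists_third {T X : Subgroup G} {E : Set Ω} (hT : SE T E) (h : ¬ RankTwo T) (hXT : X ≤ T)
    (hX : IsPGroup p X) {x y : Ω} (hx : x ∈ E) (hy : y ∈ E) (hxy : x ≠ y)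
    (hXx : ∀ r ∈ X, r • x = x) (hXy : ∀ r ∈ X, r • y = y) :
    ∃ z ∈ E, z ≠ x ∧ z ≠ y ∧ ∀ r ∈ X, r • z = z := by
  let act : MulAction T E :=
    { smul := fun g z => ⟨(g : G) • z.1, hT.smul_mem g.2 z.2⟩
      one_smul := fun z => Subtype.ext (one_smul G z.1)
      mul_smul := fun g g' z => Subtype.ext (mul_smul (g : G) (g' : G) z.1) }
  letI := act
  have hcoe : ∀ (g : T) (z : E), ((g • z : E) : Ω) = (g : G) • z.1 := fun _ _ => rfl
  obtain ⟨z, hzx, hzy, hz⟩ := H72.SE.not_two_fixed (r := p) (Nat.card E) (Γ := T) (Ω := E) le_rfl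
    ((oddIn T).subgroupOf T) (X.subgroupOf T)
    (by rw [Nat.card_congr (subgroupOfEquivOfLe oddIn_le).toEquiv]; exact odd_oddIn)
    (fun r _ => by
      rw [Subgroup.mem_normalizer_iff]
      intro l
      simpa [Subgroup.mem_subgroupOf] using
        Subgroup.mem_normalizer_iff.mp (le_normalizer_oddIn r.2) (l : G))
    hX.comap_subtype
    (fun a b => by
      obtain ⟨l, hl, hlab⟩ := exists_oddIn_smul hT h a.2 b.2
      exact ⟨⟨l, oddIn_le hl⟩, hl, Subtype.ext ((hcoe _ _).trans hlab)⟩)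
    ⟨x, hx⟩ ⟨y, hy⟩ (fun e => hxy (congrArg Subtype.val e))
    (fun r hr => Subtype.ext ((hcoe _ _).trans (hXx r hr)))
    (fun r hr => Subtype.ext ((hcoe _ _).trans (hXy r hr)))
  exact ⟨z.1, z.2, fun e => hzx (Subtype.ext e), fun e => hzy (Subtype.ext e),
    fun r hr => (hcoe ⟨r, hXT hr⟩ z).symm.trans (congrArg Subtype.val (hz ⟨r, hXT hr⟩ hr))⟩

/-- (i): the swapper of a pair centralises its invariant Sylow subgroup modulo the frame. -/
theorem Frame.central (hU : Frame p S C μ U) (H : Hyp p S C μ) {x y : Ω} (hx : x ∈ lineOf S C U)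
    (hy : y ∈ lineOf S C U) (hxy : x ≠ y) {w : G} (hw : w ∈ nor S U) (hw2 : orderOf w = 2)
    (hwx : w • x = y) {X : Subgroup G} (hX : IsSyl p (pair (nor S U) x y) X)
    (hwX : w ∈ normalizer (X : Set G)) : ⁅X, zpowers w⁆ ≤ U := by
  by_contra hbad
  set T := nor S U with hTdef
  set E := lineOf S C U with hEdef
  have hT : SE T E := hU.line H.se
  have hr1 : ¬ RankTwo T := hU.rank H
  -- a Sylow subgroup of a pair, as large as possible
  haveI : Nonempty {Y : Subgroup G // ∃ a ∈ E, ∃ b ∈ E, a ≠ b ∧ IsSyl p (pair T a b) Y} :=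
    ⟨⟨X, x, hx, y, hy, hxy, hX⟩⟩
  obtain ⟨⟨Y, a₀, ha₀, b₀, hb₀, hab₀, hY⟩, hmax⟩ := Finite.exists_max
    fun Y : {Y : Subgroup G // ∃ a ∈ E, ∃ b ∈ E, a ≠ b ∧ IsSyl p (pair T a b) Y} => Nat.card Y.1
  set F : Set Ω := {z ∈ E | ∀ r ∈ Y, r • z = z} with hF
  have hYT : Y ≤ T := fun r hr => (mem_pair.mp (hY.le hr)).1
  have ha₀F : a₀ ∈ F := ⟨ha₀, fun r hr => (mem_pair.mp (hY.le hr)).2.1⟩
  have hb₀F : b₀ ∈ F := ⟨hb₀, fun r hr => (mem_pair.mp (hY.le hr)).2.2⟩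
  have hUY : U ≤ Y := hU.le_syl ha₀ hb₀ hY
  have hsyl : ∀ a ∈ F, ∀ b ∈ F, a ≠ b → IsSyl p (pair T a b) Y := fun a ha b hb hab =>
    ⟨fun r hr => mem_pair.mpr ⟨hYT hr, ha.2 r hr, hb.2 r hr⟩, hY.pgroup, fun P hP hPp => by
      obtain ⟨Z, hPZ, hZ⟩ := exists_isSyl_ge hP hPp
      exact (Subgroup.card_le_of_le hPZ).trans (hmax ⟨Z, a, ha.1, b, hb.1, hab, hZ⟩)⟩
  have hFsmul : ∀ g ∈ T, g ∈ normalizer (Y : Set G) → ∀ z ∈ F, g • z ∈ F := by
    intro g hg hgY z hz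
    refine ⟨hT.smul_mem hg hz.1, fun r hr => ?_⟩
    have h := hz.2 _ ((Subgroup.mem_normalizer_iff.mp (inv_mem hgY) r).mp hr)
    rw [inv_inv, mul_smul, mul_smul, inv_smul_eq_iff] at h
    exact h
  have hswap : ∀ a ∈ F, ∀ b ∈ F, a ≠ b →
      ∃ v ∈ T, orderOf v = 2 ∧ v • a = b ∧ v ∈ normalizer (Y : Set G) := fun a ha b hb hab =>
    hT.exists_swapper ha.1 hb.1 hab (hsyl a ha b hb hab)
  -- no involution normalising `Y` has its point among the fixed points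
  have hfree : ∀ v ∈ T, orderOf v = 2 → v ∈ normalizer (Y : Set G) → ∀ c ∈ F, v • c ≠ c := by
    intro v hv hv2 hvY c hc hvc
    obtain ⟨z, hzF, hzc⟩ : ∃ z ∈ F, z ≠ c := by
      by_cases h : a₀ = c
      · exact ⟨b₀, hb₀F, h ▸ hab₀.symm⟩
      · exact ⟨a₀, ha₀F, h⟩
    have hvz : z ≠ v • z := fun h => hzc (hT.fix_unique hv hv2 hzF.1 hc.1 h.symm hvc)
    obtain ⟨v', hv', hv'2, hv'c, hv'Y⟩ := hswap c hc z hzF hzc.symm
    obtain ⟨d, hd, hv'd⟩ := H.se.exists_fix hv'.1 hv'2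
    have hcd : c ≠ d := fun h => hzc (by rw [← hv'c, h, hv'd])
    have hYbase : Base p S C Y := Base.of_fix H.se (hYT.trans inf_le_left) hY.pgroup
      (s := v) (t := v') ⟨hv.1, hvY⟩ ⟨hv'.1, hv'Y⟩ hv2 hv'2 hc.1.1 hd hvc hv'd hcd hc.2
    have hvzF := hFsmul v hv hvY z hzF
    have hnc : ¬ ⁅Y, zpowers v⁆ ≤ U := fun h => hbad
      (hU.comm_le_of_one H hzF.1 hvzF.1 hvz hx hy hxy hv hv2 rfl hw hw2 hwx
        (hsyl z hzF _ hvzF hvz) hvY hX hwX h)
    have hle : ⁅U, zpowers v⁆ ≤ ⁅Y, zpowers v⁆ := Subgroup.commutator_mono hUY le_rfl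
    have hcard : Nat.card ↥⁅Y, zpowers v⁆ ≤ Nat.card ↥⁅U, zpowers v⁆ :=
      (H.bd Y hYbase v ⟨hv.1, hvY⟩ hv2).trans (hU.card_eq v hv hv2).ge
    exact hnc ((Subgroup.eq_of_le_of_card_ge hle hcard).ge.trans (comm_le_left hv.2))
  -- the odd core fixes the fixed points
  have hodd : ∀ l ∈ oddIn T, l ∈ normalizer (Y : Set G) → ∀ a ∈ F, l • a = a := by
    intro l hl hlY a ha
    by_contra hne
    have hb := hFsmul l (oddIn_le hl) hlY a ha
    obtain ⟨v, hv, hv2, hva, hvY⟩ := hswap a ha _ hb (Ne.symm hne)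
    set L := oddIn T ⊓ normalizer (Y : Set G) with hL
    have hvL : v ∈ normalizer (L : Set G) := by
      rw [Subgroup.mem_normalizer_iff]
      intro g
      rw [hL, mem_inf, mem_inf]
      exact and_congr (Subgroup.mem_normalizer_iff.mp (le_normalizer_oddIn hv) g)
        (Subgroup.mem_normalizer_iff.mp (Subgroup.le_normalizer hvY) g)
    obtain ⟨z, ⟨m, hm, rfl⟩, hz⟩ := Coprime.exists_fixed_point (A := zpowers v) (K := L)
      (zpowers_le.mpr hvL)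
      (coprime_zpowers hv2 (odd_oddIn.of_dvd_nat (card_dvd_of_le inf_le_left)))
      (Or.inl (Coprime.isSolvable_zpowers v))
      (S := {z : Ω | ∃ m ∈ L, m • a = z}) ⟨a, 1, one_mem _, one_smul G a⟩
      (by
        rintro i hi _ ⟨m, hm, rfl⟩
        rcases eq_one_or_eq hv2 hi with rfl | rfl
        · exact ⟨m, hm, (one_smul G _).symm⟩
        · refine ⟨i * m * i⁻¹ * l, mul_mem ((Subgroup.mem_normalizer_iff.mp hvL m).mp hm)
            ⟨hl, hlY⟩, ?_⟩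
          rw [mul_smul, ← hva, mul_smul, mul_smul, inv_smul_smul])
      (by
        rintro _ ⟨m, hm, rfl⟩ _ ⟨n, hn, rfl⟩
        exact ⟨n * m⁻¹, mul_mem hn (inv_mem hm), by rw [mul_smul, inv_smul_smul]⟩)
      (by
        rintro k hk _ ⟨m, hm, rfl⟩
        exact ⟨k * m, mul_mem hk hm, mul_smul k m a⟩)
    exact hfree v hv hv2 hvY _ (hFsmul m (oddIn_le hm.1) hm.2 a ha) (hz v (mem_zpowers v))
  -- so there are only two fixed points
  obtain ⟨z, hz, hza, hzb, hzY⟩ :=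
    exists_third hT hr1 hYT hY.pgroup ha₀ hb₀ hab₀ ha₀F.2 hb₀F.2
  have hzF : z ∈ F := ⟨hz, hzY⟩
  obtain ⟨v, hv, hv2, hva, hvY⟩ := hswap a₀ ha₀F b₀ hb₀F hab₀
  obtain ⟨v', hv', hv'2, hv'a, hv'Y⟩ := hswap a₀ ha₀F z hzF hza.symm
  refine hzb ?_
  have h := hodd _ (mul_inv_mem_oddIn hr1 hv hv2 hv' hv'2) (mul_mem hv'Y (inv_mem hvY)) b₀ hb₀F
  rw [mul_smul, inv_smul_eq_iff.mpr hva.symm, hv'a] at h
  exact h

end Cfsg.Agent.H26.Bender.CaseB
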