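import Cfsg.Agent.Cores.Constrained
import Cfsg.Agent.S0205
import Cfsg.Agent.H29.Bender.Sylow

/-!
In an odd group the `p'`-core of a subgroup containing a Sylow `p`-subgroup lies in the `p'`-core
of the group.
-/

set_option autoImplicit false
set_option linter.style.haveILetI false

namespace Cfsg.Agent.H26.Bender.CaseB

open Subgroup

variable {G : Type*} [Group G]

/-- The `p'`-core of a subgroup, inside the ambient group. -/
def coreIn (p : ℕ) (X : Subgroup G) : Subgroup G := (Cfsg.pPrimeCore p ↥X).map X.subtype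

theorem coreIn_le (p : ℕ) (X : Subgroup G) : coreIn p X ≤ X := map_subtype_le _

variable [Finite G] {p : ℕ}

theorem coprime_coreIn (X : Subgroup G) : (Nat.card (coreIn p X)).Coprime p := by
  rw [coreIn, card_map_of_injective X.subtype_injective]
  exact Cores.coprime_card_pPrimeCore

theorem mem_normalizer_coreIn {X : Subgroup G} {g : G} (hg : g ∈ normalizer (X : Set G)) :
    g ∈ normalizer (coreIn p X : Set G) := by
  haveI : (Cfsg.pPrimeCore p ↥X).Characteristic := Cores.pPrimeCore_characteristic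
  let e : X ≃* X :=
    { toFun := fun d => ⟨g * d * g⁻¹, (Subgroup.mem_normalizer_iff.mp hg _).mp d.2⟩
      invFun := fun d => ⟨g⁻¹ * d * g, by
        simpa using (Subgroup.mem_normalizer_iff.mp (inv_mem hg) _).mp d.2⟩
      left_inv := fun d => Subtype.ext (by simp [mul_assoc])
      right_inv := fun d => Subtype.ext (by simp [mul_assoc])
      map_mul' := fun c d => Subtype.ext (by simp [mul_assoc]) }
  refine mem_normalizer_iff_map_conj_eq.mpr ?_
  conv_rhs => rw [coreIn, ← (Subgroup.characteristic_iff_map_eq.mp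
    (inferInstance : (Cfsg.pPrimeCore p ↥X).Characteristic) e)]
  rw [coreIn, Subgroup.map_map, Subgroup.map_map]
  rfl

theorem le_coreIn {N X : Subgroup G} (hNX : N ≤ X) (hXN : X ≤ normalizer (N : Set G))
    (hN : (Nat.card N).Coprime p) : N ≤ coreIn p X := fun g hg => by
  haveI : (N.subgroupOf X).Normal := normal_subgroupOf_of_le_normalizer hXN
  exact ⟨⟨g, hNX hg⟩, Cores.le_pPrimeCore
    (by rwa [Nat.card_congr (subgroupOfEquivOfLe hNX).toEquiv]) hg, rfl⟩

variable [Fact p.Prime]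

theorem pPrimeCore_le_of_sylow [Group.IsSolvable G] {M : Subgroup G} (P : Sylow p G)
    (hPM : (P : Subgroup G) ≤ M) : coreIn p M ≤ Cfsg.pPrimeCore p G := by
  set π := QuotientGroup.mk' (Cfsg.pPrimeCore p G) with hπ
  have hsurj : Function.Surjective π := QuotientGroup.mk'_surjective _
  haveI : Group.IsSolvable (G ⧸ Cfsg.pPrimeCore p G) := Group.isSolvable_of_surjective hsurj
  set X := Cfsg.pCore p (G ⧸ Cfsg.pPrimeCore p G) with hX
  have hXp : IsPGroup p X := Cores.pCore_isPGroup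
  haveI : X.Normal := Cfsg.pCore_normal _ _
  have hXM : X ≤ M.map π := (Cores.pCore_le_sylow (P.mapSurjective hsurj)).trans
    (by rw [Sylow.coe_mapSurjective]; exact Subgroup.map_mono hPM)
  set N := coreIn p M with hN
  have hNcop : (Nat.card (N.map π)).Coprime p :=
    (coprime_coreIn M).coprime_dvd_left (Subgroup.card_map_dvd (H := N) (f := π))
  have hdis := Cores.disjoint_of_isPGroup_of_coprime hXp hNcop
  have hcent : N.map π ≤ centralizer (X : Set (G ⧸ Cfsg.pPrimeCore p G)) := by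
    rintro _ ⟨m, hm, rfl⟩
    refine mem_centralizer_iff.mpr fun x hx => ?_
    obtain ⟨y, hy, rfl⟩ := hXM hx
    have h1 : π y * π m * (π y)⁻¹ * (π m)⁻¹ ∈ N.map π := by
      refine ⟨y * m * y⁻¹ * m⁻¹, ?_, by simp only [map_mul, map_inv]⟩
      have hyN : y ∈ normalizer (N : Set G) := mem_normalizer_coreIn (Subgroup.le_normalizer hy)
      exact N.mul_mem ((Subgroup.mem_normalizer_iff.mp hyN m).mp hm) (N.inv_mem hm)
    have h2 : π y * π m * (π y)⁻¹ * (π m)⁻¹ ∈ X := by
      have h := mul_mem hx (Subgroup.Normal.conj_mem (inferInstance : X.Normal) _ (inv_mem hx) (π m))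
      simp only [mul_assoc] at h ⊢
      exact h
    have h3 : π y * π m * (π y)⁻¹ * (π m)⁻¹ ∈ X ⊓ N.map π := ⟨h2, h1⟩
    rw [hdis, mem_bot, mul_inv_eq_one, mul_inv_eq_iff_eq_mul] at h3
    exact h3
  have hps : Cfsg.IsPSolvable p (G ⧸ Cfsg.pPrimeCore p G) := Cores.isPSolvable_of_isSolvable
  have hq : Cfsg.pPrimeCore p (G ⧸ Cfsg.pPrimeCore p G) = ⊥ := Cores.pPrimeCore_quotient_pPrimeCore
  have hle : N.map π ≤ X ⊓ N.map π :=
    le_inf (hcent.trans (Cores.centralizer_pCore_le hps hq)) le_rfl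
  rw [hdis, le_bot_iff, Subgroup.map_eq_bot_iff, hπ, QuotientGroup.ker_mk'] at hle
  exact hle

/-- The version inside an ambient group. -/
theorem coreIn_le_coreIn {D M P : Subgroup G} (hD : Odd (Nat.card D))
    (hP : H29.Bender.IsSyl p D P) (hPM : P ≤ M) (hMD : M ≤ D) : coreIn p M ≤ coreIn p D := by
  haveI : Group.IsSolvable D := Cfsg.Agent.S0205.result hD
  obtain ⟨R, hR⟩ := hP.exists_sylow
  have h := pPrimeCore_le_of_sylow (M := M.subgroupOf D) R (fun r hr =>
    hPM (hR ▸ ⟨r, hr, rfl⟩ : (r : G) ∈ P))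
  refine fun g hg => ⟨⟨g, hMD (coreIn_le p M hg)⟩, h ?_, rfl⟩
  obtain ⟨m, hm, rfl⟩ := hg
  rw [coreIn, ← Cores.pPrimeCore_map_mulEquiv (subgroupOfEquivOfLe hMD).symm]
  exact ⟨⟨⟨(m : G), hMD m.2⟩, m.2⟩, ⟨m, hm, rfl⟩, rfl⟩

end Cfsg.Agent.H26.Bender.CaseB
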