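import Cfsg.Agent.H26.Bender.CaseB.Basic
import Cfsg.Agent.H31.FFPlane

/-!
CASE B: in the line of a frame, whether a swapper centralises its invariant Sylow subgroup of the
pair modulo the frame does not depend on the pair.
-/

set_option autoImplicit false
set_option linter.style.haveILetI false

namespace Cfsg.Agent.H26.Bender.CaseB

open Subgroup MulAction
open scoped commutatorElement
open Cfsg.Agent.H39
open Cfsg.Agent.H73.Bender
open Cfsg.Agent.H26.Bender
open Cfsg.Agent.H29.Bender (IsSyl exists_isSyl_ge)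

variable {G : Type*} [Group G] {Ω : Type*} [MulAction G Ω] {S : Subgroup G} {C : Set Ω}
variable [Finite G] {p : ℕ} [Fact p.Prime] {μ : ℕ} {U : Subgroup G}

/-- The fixed elements in an invariant Sylow subgroup form a Sylow subgroup of the fixed
elements. -/
theorem isSyl_inf_centralizer {D X : Subgroup G} (hD : Odd (Nat.card D)) {w : G}
    (hw : orderOf w = 2) (hwD : w ∈ normalizer (D : Set G)) (hX : IsSyl p D X)
    (hwX : w ∈ normalizer (X : Set G)) :
    IsSyl p (D ⊓ centralizer ({w} : Set G)) (X ⊓ centralizer ({w} : Set G)) := by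
  refine ⟨inf_le_inf_right _ hX.le, hX.pgroup.to_le inf_le_left, fun P hP hPp => ?_⟩
  have hwP : w ∈ normalizer (P : Set G) := by
    rw [Subgroup.mem_normalizer_iff]
    intro x
    have key : ∀ y ∈ P, w * y * w⁻¹ = y := fun y hy => by
      rw [← mem_centralizer_singleton_iff.mp (hP hy).2, mul_inv_cancel_right]
    refine ⟨fun h => by rwa [key x h], fun h => ?_⟩
    have h' := key _ h
    have e : w * x * w⁻¹ = x := mul_left_cancel (mul_right_cancel h')
    rwa [e] at h
  obtain ⟨R, hPR, hwR⟩ := Coprime.exists_invariant_sylow_ge (A := zpowers w) (K := D)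
    (zpowers_le.mpr hwD) (coprime_zpowers hw hD) (Or.inl (Coprime.isSolvable_zpowers w)) p
    (hP.trans inf_le_left) hPp (zpowers_le.mpr hwP)
  obtain ⟨d, hd, hdX⟩ := (H29.Bender.sylow_map R).exists_conj hX
  obtain ⟨c, hc, hcX⟩ := Coprime.exists_centralizer_conj (A := zpowers w) (K := D)
    (zpowers_le.mpr hwD) (coprime_zpowers hw hD) (Or.inl (Coprime.isSolvable_zpowers w)) hwR
    (zpowers_le.mpr hwX) hd hdX
  rw [centralizer_zpowers] at hc
  rw [← card_map_of_injective (K := P) (f := (MulAut.conj c).toMonoidHom)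
    (MulAut.conj c).injective]
  refine Subgroup.card_le_of_le (le_inf ((Subgroup.map_mono hPR).trans hcX.le) ?_)
  rintro _ ⟨x, hx, rfl⟩
  exact mul_mem (mul_mem hc.2 (hP hx).2) (inv_mem hc.2)

/-- A base lies in every Sylow subgroup of a pair of its line. -/
theorem Base.le_syl {V X : Subgroup G} (hV : Base p S C V) {x y : Ω}
    (hx : x ∈ lineOf S C V) (hy : y ∈ lineOf S C V) (hX : IsSyl p (pair (nor S V) x y) X) :
    V ≤ X := by
  have h := hX.eq_of_ge (le_sup_left : X ≤ X ⊔ V) (sup_le hX.le (hV.le_pair hx hy))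
    (hX.pgroup.to_sup_of_normal_right' hV.pgroup fun g hg => (mem_pair.mp (hX.le hg)).1.2)
  exact h ▸ le_sup_right

theorem Base.cent_card_eq {V : Subgroup G} (hV : Base p S C V) (hS : SE S C) {s t : G}
    (hs : s ∈ nor S V) (ht : t ∈ nor S V) (hs2 : orderOf s = 2) (ht2 : orderOf t = 2) :
    Nat.card (V ⊓ centralizer ({s} : Set G) : Subgroup G) =
      Nat.card (V ⊓ centralizer ({t} : Set G) : Subgroup G) := by
  obtain ⟨g, hg, rfl⟩ := (hV.line hS).exists_conj hs ht hs2 ht2
  rw [← card_map_of_injective (K := V ⊓ centralizer ({s} : Set G))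
    (f := (MulAut.conj g).toMonoidHom) (MulAut.conj g).injective]
  congr 2
  ext x
  rw [Subgroup.mem_map_equiv, MulAut.conj_symm_apply, mem_inf, mem_inf,
    mem_centralizer_singleton_iff, mem_centralizer_singleton_iff]
  refine and_congr ?_ ?_
  · simpa using (Subgroup.mem_normalizer_iff.mp (inv_mem hg.2) x).symm
  · constructor
    · intro h
      calc x * (g * s * g⁻¹) = g * (g⁻¹ * x * g * s) * g⁻¹ := by group
        _ = g * (s * (g⁻¹ * x * g)) * g⁻¹ := by rw [h]
        _ = g * s * g⁻¹ * x := by group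
    · intro h
      calc g⁻¹ * x * g * s = g⁻¹ * (x * (g * s * g⁻¹)) * g := by group
        _ = g⁻¹ * (g * s * g⁻¹ * x) * g := by rw [h]
        _ = s * (g⁻¹ * x * g) := by group

variable [Finite Ω]

/-- The number of swappers of a pair in the line of a base, in the form used below. -/
theorem Base.card_syl {V X : Subgroup G} (hV : Base p S C V) (H : Hyp p S C μ) {x y z : Ω}
    (hx : x ∈ lineOf S C V) (hy : y ∈ lineOf S C V) (hz : z ∈ lineOf S C V) (hxy : x ≠ y) {w : G}
    (hw : w ∈ nor S V) (hw2 : orderOf w = 2) (hwx : w • x = y)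
    (hX : IsSyl p (pair (nor S V) x y) X) (hwX : w ∈ normalizer (X : Set G)) :
    Nat.card X = Nat.card (X ⊓ centralizer ({w} : Set G) : Subgroup G) *
      p ^ (Nat.card {t : G // t ∈ nor S V ∧ orderOf t = 2 ∧ t • z = z}).factorization p := by
  have hT := hV.line H.se
  set D := pair (nor S V) x y with hD
  have hwy := swap_symm hw2 hwx
  have hcount : Nat.card D = Nat.card {t : G // t ∈ nor S V ∧ orderOf t = 2 ∧ t • z = z} *
      Nat.card (D ⊓ centralizer ({w} : Set G) : Subgroup G) := by
    rw [Coprime.SE.card_eq_conj_mul D w (fun v => v ∈ nor S V ∧ orderOf v = 2 ∧ v • x = y)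
      (fun d hd => ⟨conj_mem_of_mem (mem_pair.mp hd).1 hw, by rw [orderOf_conj, hw2],
        by rw [mul_smul, mul_smul, inv_smul_eq_iff.mpr (mem_pair.mp hd).2.1.symm, hwx,
          (mem_pair.mp hd).2.2]⟩)
      (fun v hv => hT.swap_conj hx hy hxy hw hv.1 hw2 hv.2.1 hwx hv.2.2),
      hT.card_swap hx hy, hT.card_inv_at_eq hx hz]
  have hne : Nat.card {t : G // t ∈ nor S V ∧ orderOf t = 2 ∧ t • z = z} ≠ 0 := fun h => by
    rw [h, zero_mul] at hcount; exact Nat.card_pos.ne' hcount
  rw [hX.card_eq, (isSyl_inf_centralizer (hT.odd_pair hx hy hxy) hw2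
    (mem_normalizer_pair hw hw2 hwx) hX hwX).card_eq, hcount,
    Nat.factorization_mul hne Nat.card_pos.ne', Finsupp.add_apply, pow_add, mul_comm]

/-- The swapper centralises its invariant Sylow subgroup modulo the base just when the index of
the fixed elements in the base is the `p`-part of the number of involutions at a point. -/
theorem Base.comm_le_iff {V X : Subgroup G} (hV : Base p S C V) (H : Hyp p S C μ) {x y z : Ω}
    (hx : x ∈ lineOf S C V) (hy : y ∈ lineOf S C V) (hz : z ∈ lineOf S C V) (hxy : x ≠ y) {w : G}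
    (hw : w ∈ nor S V) (hw2 : orderOf w = 2) (hwx : w • x = y)
    (hX : IsSyl p (pair (nor S V) x y) X) (hwX : w ∈ normalizer (X : Set G)) :
    ⁅X, zpowers w⁆ ≤ V ↔ Nat.card V = Nat.card (V ⊓ centralizer ({w} : Set G) : Subgroup G) *
      p ^ (Nat.card {t : G // t ∈ nor S V ∧ orderOf t = 2 ∧ t • z = z}).factorization p := by
  have hcard := hV.card_syl H hx hy hz hxy hw hw2 hwx hX hwX
  have hVX := hV.le_syl hx hy hX
  set CX := X ⊓ centralizer ({w} : Set G) with hCX
  have hCN : CX ≤ normalizer (V : Set G) := fun g hg => (mem_pair.mp (hX.le hg.1)).1.2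
  have hinf : V ⊓ CX = V ⊓ centralizer ({w} : Set G) :=
    le_antisymm (inf_le_inf_left _ inf_le_right) (le_inf inf_le_left (inf_le_inf_right _ hVX))
  have hprod := H31.FF.card_sup_mul_card_inf hCN
  rw [hinf] at hprod
  have hsupX : V ⊔ CX ≤ X := sup_le hVX inf_le_left
  have hodd : Odd (Nat.card X) := H29.Bender.odd_card_of_isPGroup hX.pgroup H.odd
  constructor
  · intro h
    have hXeq : V ⊔ CX = X :=
      le_antisymm hsupX ((comm_sup_cent hodd hw2 hwX).ge.trans (sup_le_sup_right h _))
    rw [hXeq, hcard] at hprod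
    refine Nat.eq_of_mul_eq_mul_right (Nat.card_pos (α := CX)) ?_
    rw [← hprod]; ring
  · intro h
    have hXeq : V ⊔ CX = X := by
      refine Subgroup.eq_of_le_of_card_ge hsupX (le_of_eq ?_)
      refine Nat.eq_of_mul_eq_mul_right
        (Nat.card_pos (α := (V ⊓ centralizer ({w} : Set G) : Subgroup G))) ?_
      rw [hprod, hcard, h]; ring
    refine comm_le hw2 fun g hg => ?_
    rw [← hXeq] at hg
    obtain ⟨n, hn, a, ha, rfl⟩ := (Coprime.mem_sup_iff hCN).mp hg
    rw [commutatorElement_mul_left_eq_conj_mul,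
      commutatorElement_eq_one_iff_mul_comm.mpr (mem_centralizer_singleton_iff.mp ha.2),
      mul_one, mul_inv_cancel, one_mul]
    exact comm_le_left hw.2 (commutator_mem_commutator hn (mem_zpowers w))

/-- Whether the swappers centralise modulo the base does not depend on the pair. -/
theorem Base.comm_le_of_one {V X X' : Subgroup G} (hV : Base p S C V) (H : Hyp p S C μ)
    {x y x' y' : Ω} (hx : x ∈ lineOf S C V) (hy : y ∈ lineOf S C V) (hxy : x ≠ y)
    (hx' : x' ∈ lineOf S C V) (hy' : y' ∈ lineOf S C V) (hxy' : x' ≠ y') {w w' : G}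
    (hw : w ∈ nor S V) (hw2 : orderOf w = 2) (hwx : w • x = y)
    (hw' : w' ∈ nor S V) (hw'2 : orderOf w' = 2) (hw'x : w' • x' = y')
    (hX : IsSyl p (pair (nor S V) x y) X) (hwX : w ∈ normalizer (X : Set G))
    (hX' : IsSyl p (pair (nor S V) x' y') X') (hwX' : w' ∈ normalizer (X' : Set G))
    (h : ⁅X, zpowers w⁆ ≤ V) : ⁅X', zpowers w'⁆ ≤ V := by
  rw [hV.comm_le_iff H hx' hy' hx hxy' hw' hw'2 hw'x hX' hwX',
    hV.cent_card_eq H.se hw' hw hw'2 hw2]
  exact (hV.comm_le_iff H hx hy hx hxy hw hw2 hwx hX hwX).mp h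

end Cfsg.Agent.H26.Bender.CaseB
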