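import Cfsg.Agent.Coprime.Action
import Cfsg.Agent.S0205

/-!
COVER: an odd group acted on coprimely by a `p`-group extended by an involution `w` is covered by
an invariant subgroup containing the fixed elements of `w` and the centraliser of the commutator
of the `p`-group with `w`.
-/

set_option autoImplicit false
set_option linter.style.haveILetI false

namespace Cfsg.Agent.H26.Bender.CaseB

open Subgroup
open scoped commutatorElement

variable {G : Type*} [Group G]

/-- The elements normalising `K` and `M` and centralising `K` modulo `M`. -/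
def actTriv (K M : Subgroup G) : Subgroup G where
  carrier := {b | b ∈ normalizer (K : Set G) ∧ ∀ k ∈ K, b * k * b⁻¹ * k⁻¹ ∈ M}
  one_mem' := ⟨one_mem _, fun k _ => by simp⟩
  mul_mem' := by
    rintro a b ⟨ha, ha'⟩ ⟨hb, hb'⟩
    refine ⟨mul_mem ha hb, fun k hk => ?_⟩
    have h := mul_mem (ha' _ ((Subgroup.mem_normalizer_iff.mp hb k).mp hk)) (hb' k hk)
    simpa [mul_assoc] using h
  inv_mem' := by
    rintro a ⟨ha, ha'⟩
    refine ⟨inv_mem ha, fun k hk => ?_⟩
    have hk' := (Subgroup.mem_normalizer_iff.mp (inv_mem ha) k).mp hk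
    have h := inv_mem (ha' _ hk')
    simpa [mul_assoc] using h

variable [Finite G]

/-- If the fixed elements of `w` lie in `M`, which contains the derived group of `K`, the commutators
of a group normalising `K` and `M` with `w` centralise `K` modulo `M`. -/
theorem comm_le_actTriv {K M P : Subgroup G} (hK : Odd (Nat.card K)) (hMK : M ≤ K)
    (hKK : ⁅K, K⁆ ≤ M) {w : G} (hw : orderOf w = 2) (hwK : w ∈ normalizer (K : Set G))
    (hwM : w ∈ normalizer (M : Set G)) (hPK : P ≤ normalizer (K : Set G))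
    (hPM : P ≤ normalizer (M : Set G)) (hC : K ⊓ centralizer ({w} : Set G) ≤ M) :
    ⁅P, zpowers w⁆ ≤ actTriv K M := by
  have hKM : K ≤ normalizer (M : Set G) := by
    rw [le_normalizer_iff_commutator_le_right]
    exact (Subgroup.commutator_mono le_rfl hMK).trans hKK
  have hwi : w⁻¹ = w := by
    rw [inv_eq_of_mul_eq_one_right]
    rw [← pow_two, ← hw, pow_orderOf_eq_one]
  have hww : w * w = 1 := by rw [← pow_two, ← hw, pow_orderOf_eq_one]
  -- `w` inverts `K` modulo `M`
  have hI : ∀ k ∈ K, w * k * w⁻¹ * k ∈ M := by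
    intro k hk
    have hk' := (Subgroup.mem_normalizer_iff.mp hwK k).mp hk
    have he : w * k * w⁻¹ * k ∈ K := mul_mem hk' hk
    obtain ⟨c, hc, hcM⟩ := Coprime.exists_centralizer_mem_of_comm_mem (A := zpowers w) (K := K)
      (zpowers_le.mpr hwK) (by rw [Nat.card_zpowers, hw]; exact hK.coprime_two_left)
      (Or.inl (Coprime.isSolvable_zpowers w)) hMK hKM (zpowers_le.mpr hwM) he (by
        intro i hi
        obtain ⟨n, rfl⟩ := mem_zpowers_iff.mp hi
        have h2 : w ^ (2 : ℤ) = 1 := by rw [zpow_two, hww]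
        rcases Int.even_or_odd n with ⟨m, rfl⟩ | ⟨m, rfl⟩
        · rw [show w ^ (m + m) = 1 by rw [← two_mul, zpow_mul, h2, one_zpow]]
          simp
        · rw [show w ^ (2 * m + 1) = w by rw [zpow_add, zpow_mul, h2, one_zpow, one_mul, zpow_one]]
          refine hKK ?_
          have h := commutator_mem_commutator hk hk'
          convert h using 1
          rw [commutatorElement_def]
          simp only [hwi, mul_inv_rev, mul_assoc]
          rw [← mul_assoc w w, hww, one_mul])
    have hcw : c ∈ K ⊓ centralizer ({w} : Set G) :=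
      ⟨hc.1, mem_centralizer_singleton_iff.mpr (mem_centralizer_iff.mp hc.2 w (mem_zpowers w)).symm⟩
    have := mul_mem (hC hcw) (inv_mem hcM)
    simpa using this
  refine commutator_le.mpr fun g hg i hi => ?_
  suffices h : ⁅g, w⁆ ∈ actTriv K M by
    obtain ⟨n, rfl⟩ := mem_zpowers_iff.mp hi
    have h2 : w ^ (2 : ℤ) = 1 := by rw [zpow_two, hww]
    rcases Int.even_or_odd n with ⟨m, rfl⟩ | ⟨m, rfl⟩
    · rw [show w ^ (m + m) = 1 by rw [← two_mul, zpow_mul, h2, one_zpow],
        commutatorElement_one_right]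
      exact one_mem _
    · rwa [show w ^ (2 * m + 1) = w by rw [zpow_add, zpow_mul, h2, one_zpow, one_mul, zpow_one]]
  refine ⟨?_, fun k hk => ?_⟩
  · rw [commutatorElement_def]
    exact mul_mem (mul_mem (mul_mem (hPK hg) hwK) (inv_mem (hPK hg))) (inv_mem hwK)
  set k₁ := w * k * w⁻¹ with hk₁
  have hk₁K : k₁ ∈ K := (Subgroup.mem_normalizer_iff.mp hwK k).mp hk
  set k₂ := g⁻¹ * k₁ * g with hk₂
  have hk₂K : k₂ ∈ K := by
    simpa [hk₂] using (Subgroup.mem_normalizer_iff.mp (inv_mem (hPK hg)) k₁).mp hk₁K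
  set kg := g⁻¹ * k * g with hkg
  have hkgK : kg ∈ K := by
    simpa [hkg] using (Subgroup.mem_normalizer_iff.mp (inv_mem (hPK hg)) k).mp hk
  have h1 : k₂ * kg ∈ M := by
    have h := (Subgroup.mem_normalizer_iff.mp (inv_mem (hPM hg)) _).mp (hI k hk)
    simpa [hk₂, hkg, hk₁, mul_assoc] using h
  have h2 : kg * k₂ ∈ M := by
    have h := (Subgroup.mem_normalizer_iff.mp (hKM hkgK) _).mp h1
    simpa [mul_assoc] using h
  have h3 : w * k₂ * w⁻¹ * kg⁻¹ ∈ M := by
    have h := mul_mem (hI k₂ hk₂K) (inv_mem h2)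
    simpa [mul_assoc] using h
  have h4 := (Subgroup.mem_normalizer_iff.mp (hPM hg) _).mp h3
  convert h4 using 1
  rw [commutatorElement_def, hk₂, hkg, hk₁]
  simp only [hwi, mul_inv_rev, inv_inv, mul_assoc, mul_inv_cancel_left, mul_inv_cancel, mul_one]

/-- COVER. -/
theorem cover {K L P : Subgroup G} {w : G} {p : ℕ} [Fact p.Prime] (hK : Odd (Nat.card K))
    (hcop : (Nat.card P).Coprime (Nat.card K)) (hw : orderOf w = 2)
    (hwK : w ∈ normalizer (K : Set G)) (hPK : P ≤ normalizer (K : Set G))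
    (hwP : w ∈ normalizer (P : Set G)) (hwL : w ∈ normalizer (L : Set G))
    (hPL : P ≤ normalizer (L : Set G)) (hLK : L ≤ K)
    (hC : K ⊓ centralizer ({w} : Set G) ≤ L) :
    ∀ k ∈ K, ∃ a ∈ K ⊓ centralizer ((⁅P, zpowers w⁆ : Subgroup G) : Set G), ∃ l ∈ L, k = a * l := by
  induction hn : Nat.card K using Nat.strong_induction_on generalizing K L with
  | _ n ih =>
  intro k hk
  rcases eq_or_ne K ⊥ with hK0 | hK0
  · rw [hK0, mem_bot] at hk
    exact ⟨1, one_mem _, 1, one_mem _, by rw [hk, one_mul]⟩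
  haveI : Group.IsSolvable K := Cfsg.Agent.S0205.result hK
  haveI : Nontrivial K := (Subgroup.nontrivial_iff_ne_bot K).mpr hK0
  have hder : ⁅K, K⁆ < K := by
    refine lt_of_le_of_ne (commutator_le.mpr fun a ha b hb => ?_) fun h => ?_
    · rw [commutatorElement_def]
      exact mul_mem (mul_mem (mul_mem ha hb) (inv_mem ha)) (inv_mem hb)
    · refine (Group.IsSolvable.commutator_lt_top_of_nontrivial (G := K)).ne
        (map_injective K.subtype_injective ?_)
      rw [_root_.commutator_def, map_commutator, ← MonoidHom.range_eq_map, Subgroup.range_subtype]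
      exact h
  have hderN : ∀ g ∈ normalizer (K : Set G), g ∈ normalizer ((⁅K, K⁆ : Subgroup G) : Set G) :=
    fun g hg => Coprime.mem_normalizer_of_map_conj (by
      rw [map_commutator, Coprime.map_conj_eq hg])
  obtain ⟨M, ⟨hKM, hMlt, hwM, hPM⟩, hmax⟩ := Set.Finite.exists_maximalFor id
    {M : Subgroup G | ⁅K, K⁆ ≤ M ∧ M < K ∧ w ∈ normalizer (M : Set G) ∧
      P ≤ normalizer (M : Set G)}
    (Set.toFinite _) ⟨_, le_rfl, hder, hderN w hwK, fun g hg => hderN g (hPK hg)⟩
  have hKnM : K ≤ normalizer (M : Set G) := by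
    rw [le_normalizer_iff_commutator_le_right]
    exact (Subgroup.commutator_mono le_rfl hMlt.le).trans hKM
  have hcard : Nat.card M < n := by
    rw [← hn]
    refine lt_of_le_of_ne (Subgroup.card_le_of_le hMlt.le) fun h => hMlt.ne ?_
    exact Subgroup.eq_of_le_of_card_ge hMlt.le h.ge
  have hinfN : ∀ {g : G}, g ∈ normalizer (L : Set G) → g ∈ normalizer (M : Set G) →
      g ∈ normalizer ((L ⊓ M : Subgroup G) : Set G) := fun {g} h h' => by
    rw [Subgroup.mem_normalizer_iff]
    intro x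
    rw [mem_inf, mem_inf]
    exact and_congr (Subgroup.mem_normalizer_iff.mp h x) (Subgroup.mem_normalizer_iff.mp h' x)
  have hIH := ih _ hcard (L := L ⊓ M) (hK.of_dvd_nat (card_dvd_of_le hMlt.le))
    (hcop.coprime_dvd_right (card_dvd_of_le hMlt.le)) hwM hPM (hinfN hwL hwM)
    (fun g hg => hinfN (hPL hg) (hPM hg)) inf_le_right
    (fun x hx => ⟨hC ⟨hMlt.le hx.1, hx.2⟩, hx.1⟩) rfl
  by_cases hsup : M ⊔ L = K
  · obtain ⟨m, hm, l, hl, rfl⟩ := (Coprime.mem_sup_iff (hLK.trans hKnM)).mp (hsup.ge hk)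
    obtain ⟨a, ha, l', hl', rfl⟩ := hIH m hm
    exact ⟨a, ⟨hMlt.le ha.1, ha.2⟩, l' * l, mul_mem hl'.1 hl, mul_assoc a l' l⟩
  have hLM : L ≤ M := le_sup_right.trans (hmax ⟨hKM.trans le_sup_left,
    lt_of_le_of_ne (sup_le hMlt.le hLK) hsup,
    normalizer_inf_normalizer_le_normalizer_sup M L ⟨hwM, hwL⟩,
    fun g hg => normalizer_inf_normalizer_le_normalizer_sup M L ⟨hPM hg, hPL hg⟩⟩ le_sup_left)
  set B := ⁅P, zpowers w⁆ with hB
  have hBP : B ≤ P := Coprime.commutator_le_left_of_normalizer (zpowers_le.mpr hwP)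
  have htriv := comm_le_actTriv hK hMlt.le hKM hw hwK hwM hPK hPM (hC.trans hLM)
  obtain ⟨c, hc, hcM⟩ := Coprime.exists_centralizer_mem_of_comm_mem (A := B) (K := K)
    (hBP.trans hPK) (hcop.coprime_dvd_left (card_dvd_of_le hBP)) (Or.inr inferInstance) hMlt.le
    hKnM (hBP.trans hPM) hk (fun b hb => (htriv hb).2 k hk)
  have hm : c⁻¹ * k ∈ M := by simpa using inv_mem hcM
  obtain ⟨a, ha, l, hl, hal⟩ := hIH _ hm
  refine ⟨c * a, mul_mem hc ⟨hMlt.le ha.1, ha.2⟩, l, hl.1, ?_⟩
  rw [mul_assoc, ← hal, mul_inv_cancel_left]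

end Cfsg.Agent.H26.Bender.CaseB
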