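import Cfsg.Agent.H26.Bender.CaseB.Central

/-!
CASE B (ii): for a pair in the line of a frame, the invariant Sylow subgroup of the whole pair
stabiliser fixes the point of the swapper and has the same commutator with it as the frame.
-/

set_option autoImplicit false
set_option linter.style.haveILetI false

namespace Cfsg.Agent.H26.Bender.CaseB

open Subgroup MulAction
open scoped commutatorElement
open Cfsg.Agent.H39
open Cfsg.Agent.H73.Bender
open Cfsg.Agent.H26.Bender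
open Cfsg.Agent.H29.Bender (IsSyl exists_isSyl_ge)

universe u v

variable {G : Type u} [Group G] {Ω : Type v} [MulAction G Ω] {S : Subgroup G} {C : Set Ω}
variable [Finite G] [Finite Ω] {p : ℕ} [Fact p.Prime] {μ : ℕ} {U : Subgroup G}

/-- One step: a frame grows to an invariant Sylow subgroup of the pair in its normaliser. -/
theorem Frame.step {X : Subgroup G} (hX : Frame p S C μ X) (H : Hyp p S C μ) {x y c : Ω}
    (hx : x ∈ lineOf S C X) (hy : y ∈ lineOf S C X) (hxy : x ≠ y) (hc : c ∈ C) {w : G}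
    (hw : w ∈ nor S X) (hw2 : orderOf w = 2) (hwx : w • x = y) (hwc : w • c = c) :
    ∃ Y, X ≤ Y ∧ Frame p S C μ Y ∧ IsSyl p (pair (nor S X) x y) Y ∧ x ∈ lineOf S C Y ∧
      y ∈ lineOf S C Y ∧ w ∈ nor S Y ∧ (∀ r ∈ Y, r • c = c) ∧
      ⁅Y, zpowers w⁆ = ⁅X, zpowers w⁆ := by
  have hT : SE (nor S X) (lineOf S C X) := hX.line H.se
  have hwD : w ∈ normalizer (pair (nor S X) x y : Set G) := mem_normalizer_pair hw hw2 hwx
  have hcX : c ∈ lineOf S C X := ⟨hc, w, hw, hw2, hwc⟩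
  have hcx : c ≠ x := fun h => hxy (by rw [← hwx, ← h, hwc])
  obtain ⟨R, hXR, hwR⟩ := Coprime.exists_invariant_sylow_ge (A := zpowers w)
    (K := pair (nor S X) x y) (zpowers_le.mpr hwD)
    (coprime_zpowers hw2 (hT.odd_pair hx hy hxy)) (Or.inl (Coprime.isSolvable_zpowers w)) p
    (hX.le_pair hx hy) hX.pgroup (zpowers_le.mpr hw.2)
  set Y : Subgroup G := (R : Subgroup (pair (nor S X) x y)).map (pair (nor S X) x y).subtype
  have hY : IsSyl p (pair (nor S X) x y) Y := H29.Bender.sylow_map R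
  have hwY : w ∈ normalizer (Y : Set G) := hwR (mem_zpowers w)
  have hYodd : Odd (Nat.card Y) := H29.Bender.odd_card_of_isPGroup hY.pgroup H.odd
  have hle := hX.central H hx hy hxy hw hw2 hwx hY hwY
  have heq : ⁅Y, zpowers w⁆ = ⁅X, zpowers w⁆ := by
    refine le_antisymm ?_ (Subgroup.commutator_mono hXR le_rfl)
    rw [← comm_idem hYodd hw2 hwY]
    exact Subgroup.commutator_mono hle le_rfl
  have hYc : ∀ r ∈ Y, r • c = c := by
    have h : Y ≤ stabilizer G c := by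
      rw [← comm_sup_cent hYodd hw2 hwY]
      exact sup_le (fun r hr => hX.fix r (hle hr) c hcX) fun r hr =>
        hT.fix_of_commute (mem_pair.mp (hY.le hr.1)).1 hw hw2
          (mem_centralizer_singleton_iff.mp hr.2) hcX hwc
    exact fun r hr => h hr
  have hYcx : IsSyl p (pair (nor S X) c x) Y :=
    ⟨fun r hr => mem_pair.mpr ⟨(mem_pair.mp (hY.le hr)).1, hYc r hr, (mem_pair.mp (hY.le hr)).2.1⟩,
      hY.pgroup, fun P hP hPp => by
        obtain ⟨Z, hPZ, hZ⟩ := exists_isSyl_ge hP hPp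
        refine (Subgroup.card_le_of_le hPZ).trans (le_of_eq ?_)
        rw [hZ.card_eq, hY.card_eq, hT.card_pair_eq hx hy hcX hxy hw hw2 hwx hwc]⟩
  obtain ⟨v, hv, hv2, hvc, hvY⟩ := hT.exists_swapper hcX hx hcx hYcx
  have hYS : Y ≤ S := fun r hr => (mem_pair.mp (hY.le hr)).1.1
  have hsY : v * w * v⁻¹ ∈ nor S Y :=
    ⟨conj_mem_of_mem hv.1 hw.1, conj_mem_of_mem (S := normalizer (Y : Set G)) hvY hwY⟩
  have hs2 : orderOf (v * w * v⁻¹) = 2 := by rw [orderOf_conj, hw2]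
  have hsx : (v * w * v⁻¹) • x = x := by rw [← hvc]; exact conj_smul_of_smul hwc
  have hbase : Base p S C Y := Base.of_fix H.se hYS hY.pgroup (s := w) (t := v * w * v⁻¹)
    ⟨hw.1, hwY⟩ hsY hw2 hs2 hc hx.1 hwc hsx hcx hYc
  have hframe : Frame p S C μ Y := Frame.of_le H hbase (t := w) ⟨hw.1, hwY⟩ hw2 (by
    rw [← hX.card_eq w hw hw2, Member.commCard, Member.commCard, heq])
  have hxY : x ∈ lineOf S C Y := ⟨hx.1, _, hsY, hs2, hsx⟩
  exact ⟨Y, hXR, hframe, hY, hxY, hwx ▸ (hbase.line H.se).smul_mem ⟨hw.1, hwY⟩ hxY, ⟨hw.1, hwY⟩,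
    hYc, heq⟩

/-- (ii). -/
theorem Frame.exists_syl (hU : Frame p S C μ U) (H : Hyp p S C μ) {x y c : Ω}
    (hx : x ∈ lineOf S C U) (hy : y ∈ lineOf S C U) (hxy : x ≠ y) (hc : c ∈ C) {w : G}
    (hw : w ∈ nor S U) (hw2 : orderOf w = 2) (hwx : w • x = y) (hwc : w • c = c) :
    ∃ P, IsSyl p (pair S x y) P ∧ U ≤ P ∧ w ∈ normalizer (P : Set G) ∧ (∀ r ∈ P, r • c = c) ∧
      ⁅P, zpowers w⁆ = ⁅U, zpowers w⁆ := by
  obtain ⟨X, ⟨hUX, hX, hxX, hyX, hwX, hXw⟩, hmax⟩ := Set.Finite.exists_maximalFor id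
    {X : Subgroup G | U ≤ X ∧ Frame p S C μ X ∧ x ∈ lineOf S C X ∧ y ∈ lineOf S C X ∧
      w ∈ nor S X ∧ ⁅X, zpowers w⁆ = ⁅U, zpowers w⁆}
    (Set.toFinite _) ⟨U, le_rfl, hU, hx, hy, hw, rfl⟩
  obtain ⟨Y, hXY, hY, hsyl, hxY, hyY, hwY, hYc, hYw⟩ :=
    hX.step H hxX hyX hxy hc hwX hw2 hwx hwc
  have hYX : Y = X :=
    le_antisymm (hmax ⟨hUX.trans hXY, hY, hxY, hyY, hwY, hYw.trans hXw⟩ hXY) hXY
  rw [hYX] at hsyl hYc
  obtain ⟨Z, hXZ, hZ⟩ := exists_isSyl_ge (q := p)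
    (fun r hr => mem_pair.mpr ⟨hX.le hr, (mem_pair.mp (hsyl.le hr)).2⟩ : X ≤ pair S x y) hX.pgroup
  rcases eq_or_lt_of_le hXZ with heq | hlt
  · exact ⟨X, heq ▸ hZ, hUX, hwX.2, hYc, hXw⟩
  exfalso
  obtain ⟨g, hgZ, hgX, hgN⟩ := exists_mem_normalizer_not_mem hZ.pgroup hlt
  have h := hsyl.eq_of_ge (le_inf hXZ Subgroup.le_normalizer : X ≤ Z ⊓ normalizer (X : Set G))
    (fun r hr => mem_pair.mpr ⟨⟨(mem_pair.mp (hZ.le hr.1)).1, hr.2⟩, (mem_pair.mp (hZ.le hr.1)).2⟩)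
    (hZ.pgroup.to_le inf_le_left)
  exact hgX (h ▸ (⟨hgZ, hgN⟩ : g ∈ Z ⊓ normalizer (X : Set G)))

end Cfsg.Agent.H26.Bender.CaseB
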