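import Cfsg.Agent.H26.Bender.CaseB.CoreLe
import Cfsg.Agent.H42.PuigCenter

/-!
The centre of the Puig subgroup of a Sylow subgroup, as used in the rotation of CASE B.
-/

set_option autoImplicit false
set_option linter.style.haveILetI false

namespace Cfsg.Agent.H26.Bender.CaseB

open Subgroup

variable {G : Type*} [Group G]

/-- The centre of the Puig subgroup of `P`, inside the ambient group. -/
def puigZ (P : Subgroup G) : Subgroup G :=
  H42.upperIn P ⊓ centralizer (H42.upperIn P : Set G)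

theorem puigZ_le (P : Subgroup G) : puigZ P ≤ P := inf_le_left.trans (H42.upperIn_le P)

theorem normalizer_le_puigZ (P : Subgroup G) :
    normalizer (P : Set G) ≤ normalizer (puigZ P : Set G) :=
  (H42.normalizer_le_upperIn P).trans (H42.normalizer_le_center _)

variable [Finite G] {p : ℕ} [Fact p.Prime]

theorem puigZ_ne_bot {P : Subgroup G} (hP : IsPGroup p P) (hne : P ≠ ⊥) : puigZ P ≠ ⊥ := by
  set L := H42.upperIn P with hL
  have hL0 : L ≠ ⊥ := by
    intro h
    refine hne (le_bot_iff.mp (le_trans ?_ h.le))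
    refine fun x hx => H42.inf_centralizer_upperIn_le hP ⟨hx, mem_centralizer_iff.mpr fun y hy => ?_⟩
    rw [← hL, h] at hy
    rw [mem_bot.mp hy, one_mul, mul_one]
  have hLp : IsPGroup p L := hP.to_le (H42.upperIn_le P)
  haveI : Nontrivial L := (Subgroup.nontrivial_iff_ne_bot L).mpr hL0
  haveI := hLp.center_nontrivial
  obtain ⟨z, hz⟩ := exists_ne (1 : center L)
  intro h
  refine hz (Subtype.ext (Subtype.ext ?_))
  have hmem : ((z : L) : G) ∈ puigZ P :=
    ⟨(z : L).2, mem_centralizer_iff.mpr fun y hy =>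
      congrArg Subtype.val (mem_center_iff.mp z.2 ⟨y, hy⟩)⟩
  rw [h, mem_bot] at hmem
  exact hmem

/-- With trivial `p'`-core an odd group normalises the centre of the Puig subgroup of its Sylow
subgroup. -/
theorem le_normalizer_puigZ (hp : p ≠ 2) {D P : Subgroup G} (hD : Odd (Nat.card D))
    (hP : H29.Bender.IsSyl p D P) (hK : coreIn p D = ⊥) : D ≤ normalizer (puigZ P : Set G) := by
  haveI : Group.IsSolvable D := Cfsg.Agent.S0205.result hD
  obtain ⟨R, hR⟩ := hP.exists_sylow
  have hO : Cfsg.pPrimeCore p ↥D = ⊥ :=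
    (Subgroup.map_eq_bot_iff_of_injective _ D.subtype_injective).mp hK
  have hn := H42.puig_center_normal hp hD hO R
  have hmap : (puigZ (R : Subgroup D)).map D.subtype = puigZ P := by
    rw [puigZ, puigZ, ← hR, ← H42.map_upperIn_of_injOn D.subtype
      (fun a _ b _ h => D.subtype_injective h)]
    ext x
    constructor
    · rintro ⟨y, ⟨hy, hyc⟩, rfl⟩
      refine ⟨⟨y, hy, rfl⟩, mem_centralizer_iff.mpr ?_⟩
      rintro _ ⟨w, hw, rfl⟩
      exact congrArg Subtype.val (mem_centralizer_iff.mp hyc w hw)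
    · rintro ⟨⟨y, hy, rfl⟩, hyc⟩
      exact ⟨y, ⟨hy, mem_centralizer_iff.mpr fun w hw => Subtype.ext
        (mem_centralizer_iff.mp hyc _ ⟨w, hw, rfl⟩)⟩, rfl⟩
  rw [← hmap]
  haveI : (puigZ (R : Subgroup D)).Normal := hn
  intro d hd
  refine le_normalizer_map _ ⟨⟨d, hd⟩, ?_, rfl⟩
  rw [normalizer_eq_top]; exact mem_top _

end Cfsg.Agent.H26.Bender.CaseB
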