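import Cfsg.Agent.H26.Bender.CaseB.PairSyl
import Cfsg.Agent.H26.Bender.CaseB.Block
import Cfsg.Agent.H26.Bender.CaseB.Cover
import Cfsg.Agent.H26.Bender.CaseB.Puig

/-!
CASE B (iii), (iv): some pair with midpoint `c` has the same `p'`-core as the pair `c, x`, so some
odd subgroup is normalised by all involutions at `c` and by an involution at `x`.
-/

set_option autoImplicit false
set_option linter.style.haveILetI false

namespace Cfsg.Agent.H26.Bender.CaseB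

open Subgroup MulAction
open scoped commutatorElement
open Cfsg.Agent.H39
open Cfsg.Agent.H73.Bender
open Cfsg.Agent.H26.Bender
open Cfsg.Agent.H29.Bender (IsSyl exists_isSyl_ge)

universe u v

variable {G : Type u} [Group G] {Ω : Type v} [MulAction G Ω] {S : Subgroup G} {C : Set Ω}
variable [Finite G] {p : ℕ} [Fact p.Prime] {μ : ℕ} {U : Subgroup G}

/-- The block condition of (iii): for every pair inside the block the `p'`-core of its stabiliser
fixes the point of each swapper. -/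
def Stable (p : ℕ) (S : Subgroup G) (C : Set Ω) (V A : Subgroup G) : Prop :=
  ∀ x ∈ lineOf S C V, ∀ y ∈ lineOf S C V, x ≠ y → (∃ e ∈ A, e • x = y) →
    ∀ w ∈ nor S V, orderOf w = 2 → w • x = y → ∀ c ∈ C, w • c = c →
      ∀ k ∈ coreIn p (pair S x y), k • c = c

variable [Finite Ω]

/-- COVER for the pairs of a frame. -/
theorem Frame.core_fix (hU : Frame p S C μ U) (H : Hyp p S C μ) {x y c : Ω}
    (hx : x ∈ lineOf S C U) (hy : y ∈ lineOf S C U) (hxy : x ≠ y) (hc : c ∈ C) {w : G}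
    (hw : w ∈ nor S U) (hw2 : orderOf w = 2) (hwx : w • x = y) (hwc : w • c = c)
    (h : ∀ a ∈ pair S x y, a ∈ centralizer ((⁅U, zpowers w⁆ : Subgroup G) : Set G) → a • c = c) :
    ∀ k ∈ coreIn p (pair S x y), k • c = c := by
  obtain ⟨P, hP, -, hwP, hPc, hPw⟩ := hU.exists_syl H hx hy hxy hc hw hw2 hwx hwc
  set K := coreIn p (pair S x y) with hK
  have hKD : K ≤ pair S x y := coreIn_le p _
  have hwD : w ∈ normalizer (pair S x y : Set G) := mem_normalizer_pair hw.1 hw2 hwx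
  have hPK : P ≤ normalizer (K : Set G) := fun g hg =>
    mem_normalizer_coreIn (Subgroup.le_normalizer (hP.le hg))
  have hinf : ∀ g ∈ normalizer (K : Set G), g • c = c →
      g ∈ normalizer ((K ⊓ stabilizer G c : Subgroup G) : Set G) := fun g hg hgc => by
    rw [Subgroup.mem_normalizer_iff]
    intro a
    rw [mem_inf, mem_inf]
    exact and_congr (Subgroup.mem_normalizer_iff.mp hg a)
      (Subgroup.mem_normalizer_iff.mp
        (Subgroup.le_normalizer (MulAction.mem_stabilizer_iff.mpr hgc)) a)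
  have hcop : (Nat.card P).Coprime (Nat.card K) := by
    obtain ⟨n, hn⟩ := IsPGroup.iff_card.mp hP.pgroup
    rw [hn]
    exact (coprime_coreIn _).symm.pow_left n
  intro k hk
  obtain ⟨a, ha, l, hl, rfl⟩ := cover (L := K ⊓ stabilizer G c) (w := w) (p := p)
    ((H.se.odd_pair hx.1 hy.1 hxy).of_dvd_nat (card_dvd_of_le hKD)) hcop hw2
    (mem_normalizer_coreIn hwD) hPK hwP (hinf w (mem_normalizer_coreIn hwD) hwc)
    (fun g hg => hinf g (hPK hg) (hPc g hg)) inf_le_left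
    (fun g hg => ⟨hg.1, MulAction.mem_stabilizer_iff.mpr
      (H.se.fix_of_commute (mem_pair.mp (hKD hg.1)).1 hw.1 hw2
        (mem_centralizer_singleton_iff.mp hg.2) hc hwc)⟩) k hk
  have hlc : l • c = c := hl.2
  rw [mul_smul, hlc, h a (hKD ha.1) (hPw ▸ ha.2)]

/-- Some frame has a stable block. -/
theorem exists_stable (hU : Frame p S C μ U) (H : Hyp p S C μ) :
    ∃ V A, Frame p S C μ V ∧ IsBlock (nor S V) (lineOf S C V) A ∧ Stable p S C V A := by
  obtain ⟨A, hA⟩ := exists_block (hU.line H.se) (hU.rank H)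
  by_cases hst : Stable p S C U A
  · exact ⟨U, A, hU, hA, hst⟩
  obtain ⟨x, hx, y, hy, hxy, -, w, hw, hw2, hwx, c, hc, hwc, k, hk, hkc⟩ :
      ∃ x ∈ lineOf S C U, ∃ y ∈ lineOf S C U, x ≠ y ∧ (∃ e ∈ A, e • x = y) ∧
        ∃ w ∈ nor S U, orderOf w = 2 ∧ w • x = y ∧ ∃ c ∈ C, w • c = c ∧
          ∃ k ∈ coreIn p (pair S x y), k • c ≠ c := by
    unfold Stable at hst
    push Not at hst
    obtain ⟨x, hx, y, hy, hxy, he, w, hw, hw2, hwx, c, hc, hwc, k, hk, hkc⟩ := hst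
    exact ⟨x, hx, y, hy, hxy, he, w, hw, hw2, hwx, c, hc, hwc, k, hk, hkc⟩
  obtain ⟨a, ha, haB, hac⟩ : ∃ a ∈ pair S x y,
      a ∈ centralizer ((⁅U, zpowers w⁆ : Subgroup G) : Set G) ∧ a • c ≠ c := by
    by_contra! h
    exact hkc (hU.core_fix H hx hy hxy hc hw hw2 hwx hwc h k hk)
  set B := ⁅U, zpowers w⁆ with hB
  have hcU : c ∈ lineOf S C U := ⟨hc, w, hw, hw2, hwc⟩
  have hBU : B ≤ U := comm_le_left hw.2
  have haS : a ∈ S := (mem_pair.mp ha).1
  have hwB : w ∈ normalizer (B : Set G) := mem_normalizer_comm U w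
  have haN : a ∈ normalizer (B : Set G) := Subgroup.centralizer_le_normalizer _ haB
  have hBbase : Base p S C B := Base.of_fix H.se (hBU.trans hU.le) (hU.pgroup.to_le hBU)
    (s := w) (t := a * w * a⁻¹) ⟨hw.1, hwB⟩
    ⟨conj_mem_of_mem haS hw.1, conj_mem_of_mem (S := normalizer (B : Set G)) haN hwB⟩
    hw2 (by rw [orderOf_conj, hw2]) hc (H.se.smul_mem haS hc) hwc (conj_smul_of_smul hwc)
    (Ne.symm hac) (fun r hr => hU.fix r (hBU hr) c hcU)
  have hBcard : Nat.card B = μ := hU.card_eq w hw hw2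
  have hBframe : Frame p S C μ B := Frame.of_le H hBbase (t := w) ⟨hw.1, hwB⟩ hw2 (by
    rw [Member.commCard, hB, comm_idem (hU.toBase.odd_card H.odd) hw2 hw.2, ← hB, hBcard])
  obtain ⟨A', hA'⟩ := exists_block (hBframe.line H.se) (hBframe.rank H)
  refine ⟨B, A', hBframe, hA', ?_⟩
  rintro x' hx' y' hy' hxy' ⟨e, he, hexy⟩ w' hw' hw'2 hw'x c' hc' hw'c
  refine hBframe.core_fix H hx' hy' hxy' hc' hw' hw'2 hw'x hw'c fun a' ha' ha'B => ?_
  have hBB : ⁅B, zpowers w'⁆ = B := Subgroup.eq_of_le_of_card_ge (comm_le_left hw'.2)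
    (hBcard.trans (hBframe.card_eq w' hw' hw'2).symm).le
  rw [hBB] at ha'B
  exact (hA'.mid (hBframe.line H.se) hx' hy' hxy' ⟨hc', w', hw', hw'2, hw'c⟩ he hexy hw' hw'2 hw'x
    hw'c).1 a' (mem_pair.mpr ⟨⟨(mem_pair.mp ha').1, Subgroup.centralizer_le_normalizer _ ha'B⟩,
      (mem_pair.mp ha').2⟩)

/-- ROTATION: an odd subgroup normalised by all involutions at `c` and by an involution at `x`. -/
theorem exists_rotation (hp : p ≠ 2) (hU : Frame p S C μ U) (H : Hyp p S C μ) :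
    ∃ (x y c : Ω) (w v : G) (P Y : Subgroup G), x ∈ C ∧ y ∈ C ∧ c ∈ C ∧ c ≠ x ∧
      w ∈ S ∧ orderOf w = 2 ∧ w • c = c ∧ w • x = y ∧ v ∈ S ∧ v • c = x ∧
      IsPGroup p P ∧ P ≤ pair S c x ∧ P ≤ pair S x y ∧ w ∈ normalizer (P : Set G) ∧
      μ ≤ Member.commCard P w ∧
      Y ≠ ⊥ ∧ Odd (Nat.card Y) ∧ Y ≤ S ∧ pair S c x ≤ normalizer (Y : Set G) ∧
      w ∈ normalizer (Y : Set G) ∧ v * w * v⁻¹ ∈ normalizer (Y : Set G) := by
  obtain ⟨V, A, hV, hA, hst⟩ := exists_stable hU H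
  set T := nor S V with hTdef
  set E := lineOf S C V with hEdef
  have hT : SE T E := hV.line H.se
  haveI : Nonempty {q : Ω × Ω // q.1 ∈ E ∧ q.2 ∈ E ∧ q.1 ≠ q.2 ∧ ∃ e ∈ A, e • q.1 = q.2} := by
    obtain ⟨a, ha, z, hz, hne⟩ := hA.moves
    exact ⟨⟨(z, a • z), hz, hT.smul_mem (hA.le ha) hz, Ne.symm hne, a, ha, rfl⟩⟩
  obtain ⟨⟨⟨x, y⟩, hx, hy, hxy, e, he, hexy⟩, hmax⟩ := Finite.exists_max
    fun q : {q : Ω × Ω // q.1 ∈ E ∧ q.2 ∈ E ∧ q.1 ≠ q.2 ∧ ∃ e ∈ A, e • q.1 = q.2} =>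
      Nat.card (coreIn p (pair S q.1.1 q.1.2))
  change x ∈ E at hx
  change y ∈ E at hy
  change x ≠ y at hxy
  change e • x = y at hexy
  obtain ⟨w, hw, hw2, hwx⟩ := hT.exists_swap hx hy hxy
  obtain ⟨c, hcE, hwc⟩ := hT.exists_fix hw hw2
  obtain ⟨-, a, ha, hax⟩ := hA.mid hT hx hy hxy hcE he hexy hw hw2 hwx hwc
  have hcx : c ≠ x := fun h => hxy (by rw [← hwx, ← h, hwc])
  have hc : c ∈ C := hcE.1
  obtain ⟨P, hP, -, hwP, hPc, hPw⟩ := hV.exists_syl H hx hy hxy hc hw hw2 hwx hwc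
  have hμ : μ ≤ Member.commCard P w := by
    rw [Member.commCard, hPw]; exact (hV.card_eq w hw hw2).ge
  set D := pair S x y with hD
  set D₁ := pair S c x with hD₁
  set D₃ := D ⊓ stabilizer G c with hD₃
  have hKc : coreIn p D ≤ D₃ := fun k hk =>
    ⟨coreIn_le p _ hk, hst x hx y hy hxy ⟨e, he, hexy⟩ w hw hw2 hwx c hc hwc k hk⟩
  have hD31 : D₃ ≤ D₁ := fun g hg =>
    mem_pair.mpr ⟨(mem_pair.mp hg.1).1, hg.2, (mem_pair.mp hg.1).2.1⟩
  have hP1 : IsSyl p D₁ P := by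
    refine ⟨fun r hr => mem_pair.mpr ⟨(mem_pair.mp (hP.le hr)).1, hPc r hr,
      (mem_pair.mp (hP.le hr)).2.1⟩, hP.pgroup, fun Q hQ hQp => ?_⟩
    obtain ⟨Z, hQZ, hZ⟩ := exists_isSyl_ge hQ hQp
    refine (Subgroup.card_le_of_le hQZ).trans (le_of_eq ?_)
    rw [hZ.card_eq, hP.card_eq, hD, hD₁, H.se.card_pair_eq hx.1 hy.1 hc hxy hw.1 hw2 hwx hwc]
  have hle : coreIn p D ≤ coreIn p D₁ :=
    (le_coreIn hKc (fun g hg => mem_normalizer_coreIn (Subgroup.le_normalizer hg.1))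
      (coprime_coreIn D)).trans
    (coreIn_le_coreIn (H.se.odd_pair hc hx.1 hcx) hP1
      (fun r hr => ⟨hP.le hr, MulAction.mem_stabilizer_iff.mpr (hPc r hr)⟩) hD31)
  have heq : coreIn p D = coreIn p D₁ := Subgroup.eq_of_le_of_card_ge hle
    (hmax ⟨(c, x), hcE, hx, hcx, a, ha, hax⟩)
  obtain ⟨v, hv, hv2, hvc, hvP⟩ := H.se.exists_swapper hc hx.1 hcx hP1
  have hwD : w ∈ normalizer (D : Set G) := mem_normalizer_pair hw.1 hw2 hwx
  have hvD₁ : v ∈ normalizer (D₁ : Set G) := mem_normalizer_pair hv hv2 hvc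
  obtain ⟨Y, hY0, hYodd, hYS, hYD₁, hwY, hvY⟩ : ∃ Y : Subgroup G, Y ≠ ⊥ ∧ Odd (Nat.card Y) ∧
      Y ≤ S ∧ D₁ ≤ normalizer (Y : Set G) ∧ w ∈ normalizer (Y : Set G) ∧
        v ∈ normalizer (Y : Set G) := by
    by_cases hK : coreIn p D₁ = ⊥
    · have hPne : P ≠ ⊥ := by
        intro h
        rw [Member.commCard, h, Subgroup.commutator_bot_left, Subgroup.card_bot] at hμ
        exact absurd hμ (not_le.mpr H.one_lt)
      exact ⟨puigZ P, puigZ_ne_bot hP.pgroup hPne,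
        H29.Bender.odd_card_of_isPGroup (hP.pgroup.to_le (puigZ_le P)) H.odd,
        (puigZ_le P).trans fun r hr => (mem_pair.mp (hP.le hr)).1,
        le_normalizer_puigZ hp (H.se.odd_pair hc hx.1 hcx) hP1 hK,
        normalizer_le_puigZ P hwP, normalizer_le_puigZ P hvP⟩
    · exact ⟨coreIn p D₁, hK,
        (H.se.odd_pair hc hx.1 hcx).of_dvd_nat (card_dvd_of_le (coreIn_le p _)),
        fun r hr => (mem_pair.mp (coreIn_le p D₁ hr)).1,
        fun g hg => mem_normalizer_coreIn (Subgroup.le_normalizer hg),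
        heq ▸ mem_normalizer_coreIn hwD, mem_normalizer_coreIn hvD₁⟩
  exact ⟨x, y, c, w, v, P, Y, hx.1, hy.1, hc, hcx, hw.1, hw2, hwc, hwx, hv, hvc, hP.pgroup, hP1.le,
    hP.le, hwP, hμ, hY0, hYodd, hYS, hYD₁, hwY,
    conj_mem_of_mem (S := normalizer (Y : Set G)) hvY hwY⟩

end Cfsg.Agent.H26.Bender.CaseB
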